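import Mathlib
import Cfsg.Prelude.Def_ChevStructure

/-!
# Tables for twisted tori, and the rigidity criteria

A Weyl group element `w` given by a word, a root `α` whose first `l` translates `w^j α` form a basis, and
the coordinates of all roots in the simple and in the orbit basis.
-/

set_option autoImplicit false

namespace Cfsg.Agent.LangSteinberg

open Cfsg.Lie

/-- The tables. -/
structure TorusData where
  word : List ℕ
  alpha : ℕ
  g : List ℤ
  coord : List (List ℕ)
  orb : List (List ℕ)

namespace TorusData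

variable (T : TorusData) (D : ChevalleyDatum)

/-- The permutation of the roots. -/
def wperm (s : ℕ) : ℕ := T.word.foldr (fun i x => D.reflectRoot i x) s

/-- Entry `(s, j)` of a table of packed rows: blocks of sixteen rows, digits in base sixteen shifted by eight. -/
def entry (L : List (List ℕ)) (s j : ℕ) : ℤ :=
  (((L.getD (s / 16) []).getD (s % 16) 0 / 16 ^ j % 16 : ℕ) : ℤ) - 8

/-- Coordinates in the simple roots. -/
def cd (s j : ℕ) : ℤ := entry T.coord s j

/-- Coordinates in the orbit basis. -/
def ac (s j : ℕ) : ℤ := entry T.orb s j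

/-- The orbit basis. -/
def base : ℕ → ℕ
  | 0 => T.alpha
  | j + 1 => T.wperm D (base j)

/-- The tables are consistent. -/
structure Checked : Prop where
  rank_pos : 0 < D.rank
  word_lt : ∀ i ∈ T.word, i < D.rank
  alpha_lt : T.alpha < D.nroots
  g_zero : T.g.getD 0 0 = 1
  cartan_eq : ∀ i < D.rank, ∀ s < D.nroots,
    D.cartan i s = ((List.range D.rank).map fun j => T.cd s j * D.cartan i (D.simple j)).sum
  refl_eq : ∀ i < D.rank, ∀ s < D.nroots, ∀ k < D.rank,
    T.cd (D.reflectRoot i s) k = T.cd s k - if i = k then D.cartan i s else 0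
  coord_nodup : ((List.range D.nroots).map fun s => (List.range D.rank).map (T.cd s)).Nodup
  coord_orb : ∀ s < D.nroots, ∀ k < D.rank,
    T.cd s k = ((List.range D.rank).map fun j => T.ac s j * T.cd (T.base D j) k).sum
  orb_coord : ∀ s < D.nroots, ∀ j < D.rank,
    T.ac s j = ((List.range D.rank).map fun k => T.cd s k * T.ac (D.simple k) j).sum
  base_orb : ∀ i < D.rank, ∀ j < D.rank, T.ac (T.base D i) j = if i = j then 1 else 0
  coord_ne : ∀ s < D.nroots, ∃ k < D.rank, T.cd s k ≠ 0
  shift : ∀ s < D.nroots, ∀ j < D.rank,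
    T.ac (T.wperm D s) j =
      (if j = 0 then 0 else T.ac s (j - 1)) - T.g.getD j 0 * T.ac s (D.rank - 1)

/-- The exponent of a root. -/
def expo (q s : ℕ) : ℤ := ((List.range D.rank).map fun j => T.ac s j * (q : ℤ) ^ j).sum

/-- The order of the torus. -/
def size (q : ℕ) : ℤ :=
  (q : ℤ) ^ D.rank + ((List.range D.rank).map fun j => T.g.getD j 0 * (q : ℤ) ^ j).sum

/-- Only the identity symmetry preserves the exponents modulo `m`. -/
def Rigid (q : ℕ) (m : ℤ) : Prop :=
  ∀ f : ℕ → ℕ, (∀ s < D.nroots, f s < D.nroots) →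
    (∀ s < D.nroots, ∀ k < D.rank,
      T.cd (f s) k = ((List.range D.rank).map fun j => T.ac s j * T.cd (f (T.base D j)) k).sum) →
    (∀ j < D.rank, m ∣ T.expo D q (f (T.base D j)) - (q : ℤ) ^ j) →
    ∀ j < D.rank, f (T.base D j) = T.base D j

variable {T D}

theorem list_range_sum_eq (f : ℕ → ℤ) (n : ℕ) : ((List.range n).map f).sum = ∑ i ∈ Finset.range n, f i := by
  induction n with
  | zero => simp
  | succ n ih => rw [List.range_succ, List.map_append, List.sum_append, ih, Finset.sum_range_succ]; simp

theorem expo_base (h : T.Checked D) (q : ℕ) {j : ℕ} (hj : j < D.rank) :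
    T.expo D q (T.base D j) = (q : ℤ) ^ j := by
  rw [expo, list_range_sum_eq, Finset.sum_eq_single j]
  · rw [h.base_orb j hj j hj, if_pos rfl, one_mul]
  · intro i hi hne
    rw [h.base_orb j hj i (Finset.mem_range.1 hi), if_neg (Ne.symm hne), zero_mul]
  · intro hh; exact absurd (Finset.mem_range.2 hj) hh

theorem expo_wperm (h : T.Checked D) (q : ℕ) {s : ℕ} (hs : s < D.nroots) :
    T.expo D q (T.wperm D s) = (q : ℤ) * T.expo D q s - T.ac s (D.rank - 1) * T.size D q := by
  obtain ⟨l, hl⟩ : ∃ l, D.rank = l + 1 := ⟨D.rank - 1, by have := h.rank_pos; omega⟩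
  have e : ∀ j ∈ Finset.range D.rank, T.ac (T.wperm D s) j * (q : ℤ) ^ j =
      (if j = 0 then 0 else T.ac s (j - 1)) * (q : ℤ) ^ j -
        T.ac s (D.rank - 1) * (T.g.getD j 0 * (q : ℤ) ^ j) := fun j hj => by
    rw [h.shift s hs j (Finset.mem_range.1 hj)]; ring
  rw [expo, expo, size, list_range_sum_eq, list_range_sum_eq, list_range_sum_eq, Finset.sum_congr rfl e,
    Finset.sum_sub_distrib, ← Finset.mul_sum, hl, Finset.sum_range_succ' (fun j => _ * (q : ℤ) ^ j) l,
    Finset.sum_range_succ (fun j => T.ac s j * (q : ℤ) ^ j) l]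
  simp only [Nat.add_one_ne_zero, if_false, Nat.add_sub_cancel, if_true, zero_mul, add_zero, pow_succ]
  rw [Finset.sum_congr rfl fun j (_ : j ∈ Finset.range l) =>
    show T.ac s j * ((q : ℤ) ^ j * q) = (q : ℤ) * (T.ac s j * (q : ℤ) ^ j) by ring, ← Finset.mul_sum]
  ring

/-- Rigidity when `α` alone has exponent one. -/
theorem rigid_of_unique (h : T.Checked D) {q : ℕ} (hw : ∀ s < D.nroots, T.wperm D s < D.nroots)
    (hsurj : ∀ s < D.nroots, ∃ s' < D.nroots, T.wperm D s' = s)
    (hu : ∀ s < D.nroots, T.size D q ∣ T.expo D q s - 1 → s = T.alpha) : T.Rigid D q (T.size D q) := by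
  intro f hf _ hdvd j hj
  have hback : ∀ (i : ℕ) (s : ℕ), s < D.nroots → T.size D q ∣ T.expo D q s - (q : ℤ) ^ i → s = T.base D i := by
    intro i
    induction i with
    | zero => intro s hs hd; rw [pow_zero] at hd; exact hu s hs hd
    | succ i ih =>
      intro s hs hd
      obtain ⟨s', hs', rfl⟩ := hsurj s hs
      rw [expo_wperm h q hs'] at hd
      have hd' : T.size D q ∣ (q : ℤ) * (T.expo D q s' - (q : ℤ) ^ i) := by
        have := dvd_add hd (dvd_mul_left (T.size D q) (T.ac s' (D.rank - 1)))
        rwa [show (q : ℤ) * T.expo D q s' - T.ac s' (D.rank - 1) * T.size D q - (q : ℤ) ^ (i + 1) +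
          T.ac s' (D.rank - 1) * T.size D q = (q : ℤ) * (T.expo D q s' - (q : ℤ) ^ i) by ring] at this
      have hcop : IsCoprime (T.size D q) (q : ℤ) := by
        obtain ⟨l, hl⟩ : ∃ l, D.rank = l + 1 := ⟨D.rank - 1, by have := h.rank_pos; omega⟩
        refine ⟨1, -((q : ℤ) ^ l + ∑ j ∈ Finset.range l, T.g.getD (j + 1) 0 * (q : ℤ) ^ j), ?_⟩
        rw [size, list_range_sum_eq, hl, Finset.sum_range_succ', h.g_zero, one_mul, neg_mul, add_mul,
          Finset.sum_mul, Finset.sum_congr rfl fun j (_ : j ∈ Finset.range l) =>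
          show T.g.getD (j + 1) 0 * (q : ℤ) ^ j * q = T.g.getD (j + 1) 0 * (q : ℤ) ^ (j + 1) by ring]
        ring
      exact congrArg (T.wperm D) (ih s' hs' (hcop.dvd_of_dvd_mul_left hd'))
  exact hback j _ (hf _ (by
    induction j with
    | zero => exact h.alpha_lt
    | succ j ih => exact hw _ (ih (by omega)))) (hdvd j hj)

/-- All choices of one entry from each list. -/
def choices : List (List ℕ) → List (List ℕ)
  | [] => [[]]
  | c :: cs => c.flatMap fun x => (choices cs).map fun t => x :: t

theorem mem_choices : ∀ {cs : List (List ℕ)} {t : List ℕ}, List.Forall₂ (fun x c => x ∈ c) t cs → t ∈ choices cs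
  | _, _, List.Forall₂.nil => by simp [choices]
  | _, _, List.Forall₂.cons hx ht => by
    simp only [choices, List.mem_flatMap, List.mem_map]
    exact ⟨_, hx, _, mem_choices ht, rfl⟩

/-- A row of coordinates as one number. -/
def pack (v : List ℤ) : ℤ := v.foldr (fun x acc => (x + 8) + 16 * acc) 0

variable (T D) in
/-- Rigidity by enumeration. -/
def rigidCheck (q : ℕ) : Bool :=
  ((List.range D.nroots).map fun r => pack ((List.range D.rank).map (T.cd r))) ==
      T.coord.flatten.map (fun n : ℕ => (n : ℤ)) &&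
  (choices ((List.range D.rank).map fun j =>
      (List.range D.nroots).filter fun s => decide ((T.expo D q s - (q : ℤ) ^ j) % T.size D q = 0))).all
    fun t => t == (List.range D.rank).map (T.base D) ||
      (List.range D.nroots).any fun s =>
        !((T.coord.flatten.map (fun n : ℕ => (n : ℤ))).contains (pack ((List.range D.rank).map fun k =>
            ((List.range D.rank).map fun j => T.ac s j * T.cd (t.getD j 0) k).sum)))

theorem rigid_of_check (h : T.Checked D) {q : ℕ} (hw : ∀ s < D.nroots, T.wperm D s < D.nroots)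
    (hc : T.rigidCheck D q = true) : T.Rigid D q (T.size D q) := by
  intro f hf hlin hdvd j hj
  have hb : ∀ i, T.base D i < D.nroots := by
    intro i
    induction i with
    | zero => exact h.alpha_lt
    | succ i ih => exact hw _ ih
  set t := (List.range D.rank).map fun i => f (T.base D i) with ht
  have hmem : t ∈ choices ((List.range D.rank).map fun j =>
      (List.range D.nroots).filter fun s => decide ((T.expo D q s - (q : ℤ) ^ j) % T.size D q = 0)) := by
    refine mem_choices ?_
    rw [ht, List.forall₂_map_left_iff, List.forall₂_map_right_iff, List.forall₂_same]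
    intro i hi
    rw [List.mem_filter, List.mem_range, decide_eq_true_eq, ← Int.dvd_iff_emod_eq_zero]
    exact ⟨hf _ (hb i), hdvd i (List.mem_range.1 hi)⟩
  rw [rigidCheck, Bool.and_eq_true, List.all_eq_true] at hc
  obtain ⟨htab, hc⟩ := hc
  rw [beq_iff_eq] at htab
  have htd : ∀ i < D.rank, t.getD i 0 = f (T.base D i) := fun i hi => by
    rw [ht, List.getD_eq_getElem _ _ (by simpa using hi), List.getElem_map, List.getElem_range]
  rcases Bool.or_eq_true_iff.1 (hc t hmem) with h1 | h1
  · have h1' := beq_iff_eq.1 h1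
    rw [← htd j hj, h1', List.getD_eq_getElem _ _ (by simpa using hj), List.getElem_map, List.getElem_range]
  · simp only [List.any_eq_true, Bool.not_eq_true', List.contains_eq_mem, decide_eq_false_iff_not,
      List.mem_range] at h1
    obtain ⟨s, hs, hno⟩ := h1
    rw [← htab, List.mem_map] at hno
    simp only [List.mem_range] at hno
    refine absurd ⟨f s, hf s hs, congrArg pack (List.map_congr_left fun k hk => ?_)⟩ hno
    rw [hlin s hs k (List.mem_range.1 hk)]
    refine congrArg List.sum (List.map_congr_left fun i hi => ?_)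
    rw [htd i (List.mem_range.1 hi)]

/-- A combination of powers of `q` with small coefficients. -/
theorem small_comb {b q : ℕ} (hq : b < q) : ∀ {l : ℕ} (a : ℕ → ℤ), (∀ j < l, (a j).natAbs ≤ b) →
    (∑ j ∈ Finset.range l, a j * (q : ℤ) ^ j).natAbs < q ^ l ∧
      (∑ j ∈ Finset.range l, a j * (q : ℤ) ^ j = 0 → ∀ j < l, a j = 0) := by
  intro l
  induction l with
  | zero => intro a _; simp
  | succ l ih =>
    intro a ha
    obtain ⟨h1, h2⟩ := ih (fun j => a (j + 1)) fun j hj => ha _ (by omega)
    have e : ∑ j ∈ Finset.range (l + 1), a j * (q : ℤ) ^ j =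
        a 0 + (q : ℤ) * ∑ j ∈ Finset.range l, a (j + 1) * (q : ℤ) ^ j := by
      rw [Finset.sum_range_succ', Finset.mul_sum, pow_zero, mul_one, add_comm]
      refine congrArg _ (Finset.sum_congr rfl fun j _ => ?_)
      ring
    set S := ∑ j ∈ Finset.range l, a (j + 1) * (q : ℤ) ^ j with hS
    have ha0 := ha 0 (by omega)
    refine ⟨?_, fun h0 j hj => ?_⟩
    · rw [e]
      refine lt_of_le_of_lt (Int.natAbs_add_le _ _) ?_
      rw [Int.natAbs_mul, Int.natAbs_natCast, pow_succ']
      calc (a 0).natAbs + q * S.natAbs < q + q * S.natAbs := by omega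
        _ = q * (S.natAbs + 1) := by ring
        _ ≤ q * q ^ l := Nat.mul_le_mul_left _ h1
    · rw [e] at h0
      have hS0 : S = 0 := by
        by_contra hne
        have h3 : (a 0).natAbs = q * S.natAbs := by
          rw [show a 0 = -((q : ℤ) * S) by linarith, Int.natAbs_neg, Int.natAbs_mul, Int.natAbs_natCast]
        have h4 : 1 ≤ S.natAbs := Int.natAbs_pos.2 hne
        have h5 : q ≤ q * S.natAbs := Nat.le_mul_of_pos_right _ h4
        omega
      rcases j with _ | j
      · rw [hS0, mul_zero, add_zero] at h0; exact h0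
      · exact h2 hS0 j (by omega)

/-- For `q` beyond the coefficients the roots have nonzero exponents and only `α` has exponent one. -/
theorem large_q (h : T.Checked D) {q b : ℕ} (hq : b + 1 < q)
    (hb : ∀ s < D.nroots, ∀ j < D.rank, (T.ac s j).natAbs ≤ b) (hsz : (q : ℤ) ^ D.rank ≤ T.size D q) :
    (∀ s < D.nroots, ¬ T.size D q ∣ T.expo D q s) ∧
      ∀ s < D.nroots, T.size D q ∣ T.expo D q s - 1 → s = T.alpha := by
  have hinj : ∀ s < D.nroots, ∀ s' < D.nroots, (∀ j < D.rank, T.ac s j = T.ac s' j) → s = s' := by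
    intro s hs s' hs' he
    have hnd := h.coord_nodup
    rw [List.nodup_map_iff_inj_on List.nodup_range] at hnd
    refine hnd s (List.mem_range.2 hs) s' (List.mem_range.2 hs') (List.map_congr_left fun k hk => ?_)
    rw [h.coord_orb s hs k (List.mem_range.1 hk), h.coord_orb s' hs' k (List.mem_range.1 hk)]
    exact congrArg List.sum (List.map_congr_left fun j hj => by rw [he j (List.mem_range.1 hj)])
  have key : ∀ a : ℕ → ℤ, (∀ j < D.rank, (a j).natAbs ≤ b + 1) →
      T.size D q ∣ (∑ j ∈ Finset.range D.rank, a j * (q : ℤ) ^ j) → ∀ j < D.rank, a j = 0 := by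
    intro a ha hd
    obtain ⟨h1, h2⟩ := small_comb hq a ha
    refine h2 (Int.eq_zero_of_dvd_of_natAbs_lt_natAbs hd ?_)
    refine lt_of_lt_of_le h1 ?_
    have : (0 : ℤ) ≤ (q : ℤ) ^ D.rank := by positivity
    rw [← Int.natAbs_natCast (q ^ D.rank), Nat.cast_pow]
    omega
  constructor
  · intro s hs hd
    rw [expo, list_range_sum_eq] at hd
    have h0 := key (T.ac s) (fun j hj => (hb s hs j hj).trans (Nat.le_succ b)) hd
    have hz : ∀ k < D.rank, T.cd s k = 0 := fun k hk => by
      rw [h.coord_orb s hs k hk, list_range_sum_eq]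
      exact Finset.sum_eq_zero fun j hj => by rw [h0 j (Finset.mem_range.1 hj), zero_mul]
    obtain ⟨k, hk, hne⟩ := h.coord_ne s hs
    exact hne (hz k hk)
  · intro s hs hd
    refine hinj s hs _ h.alpha_lt fun j hj => ?_
    have hd' : T.size D q ∣ ∑ j ∈ Finset.range D.rank, (T.ac s j - T.ac T.alpha j) * (q : ℤ) ^ j := by
      have e : T.expo D q T.alpha = (q : ℤ) ^ 0 := expo_base h q (j := 0) h.rank_pos
      rw [pow_zero] at e
      rw [← e, expo, expo, list_range_sum_eq, list_range_sum_eq, ← Finset.sum_sub_distrib] at hd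
      simpa only [sub_mul] using hd
    refine sub_eq_zero.1 (key _ (fun i hi => ?_) hd' j hj)
    refine (Int.natAbs_sub_le _ _).trans (Nat.add_le_add (hb s hs i hi) ?_)
    rw [show T.alpha = T.base D 0 from rfl, h.base_orb 0 h.rank_pos i hi]
    split_ifs <;> simp

end TorusData

end Cfsg.Agent.LangSteinberg
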