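import Mathlib

/-!
# Groups generated by polynomial one-parameter matrix groups

Over an algebraically closed field such a group is the zero locus of its vanishing ideal, and that
ideal is prime.
-/

set_option autoImplicit false

namespace Cfsg.Agent.LangSteinberg

open MvPolynomial Matrix

/-- A family of one-parameter subgroups of matrices of determinant one with polynomial entries. -/
structure Family (k : Type*) [Field k] (n : Type*) [Fintype n] [DecidableEq n] (ι : Type*) where
  X : ι → Matrix n n (Polynomial k)
  zero : ∀ i, (X i).map (Polynomial.eval 0) = 1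
  add : ∀ i (s t : k), (X i).map (Polynomial.eval (s + t)) =
    (X i).map (Polynomial.eval s) * (X i).map (Polynomial.eval t)
  det : ∀ i (t : k), ((X i).map (Polynomial.eval t)).det = 1

variable {k : Type*} [Field k] {n : Type*} [Fintype n] [DecidableEq n] {ι : Type*}

namespace Family

variable (S : Family k n ι)

/-- The value of a word in the generators. -/
def val : List (ι × k) → Matrix n n k
  | [] => 1
  | p :: L => (S.X p.1).map (Polynomial.eval p.2) * val L

theorem val_append : ∀ L L' : List (ι × k), S.val (L ++ L') = S.val L * S.val L'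
  | [], L' => by simp [val]
  | p :: L, L' => by simp [val, val_append L L', mul_assoc]

theorem val_det : ∀ L : List (ι × k), (S.val L).det = 1
  | [] => by simp [val]
  | p :: L => by rw [val, det_mul, S.det, val_det L, one_mul]

theorem val_zeros : ∀ w : List ι, S.val (w.map fun i => (i, (0 : k))) = 1
  | [] => rfl
  | i :: w => by rw [List.map_cons, val, S.zero, val_zeros w, one_mul]

theorem val_neg_reverse : ∀ L : List (ι × k),
    S.val L * S.val (L.reverse.map fun p => (p.1, -p.2)) = 1
  | [] => by simp [val]
  | p :: L => by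
    rw [List.reverse_cons, List.map_append, val_append, List.map_cons, List.map_nil, val, ← mul_assoc,
      mul_assoc ((S.X p.1).map _) (S.val L), val_neg_reverse L, mul_one, val, val, mul_one, ← S.add,
      add_neg_cancel, S.zero]

/-- A generator as an element of the general linear group. -/
noncomputable def gen (i : ι) (t : k) : GL n k := GeneralLinearGroup.mkOfDetNeZero ((S.X i).map (Polynomial.eval t))
  (by rw [S.det]; exact one_ne_zero)

/-- The group generated by the family. -/
noncomputable def group : Subgroup (GL n k) := Subgroup.closure (Set.range fun p : ι × k => S.gen p.1 p.2)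

theorem exists_val_of_mem {g : GL n k} (hg : g ∈ S.group) : ∃ L, (g : Matrix n n k) = S.val L := by
  induction hg using Subgroup.closure_induction with
  | mem x hx => obtain ⟨p, rfl⟩ := hx; exact ⟨[p], by simp [val, gen]⟩
  | one => exact ⟨[], rfl⟩
  | mul x y _ _ hx hy =>
    obtain ⟨L, hL⟩ := hx
    obtain ⟨L', hL'⟩ := hy
    exact ⟨L ++ L', by rw [Units.val_mul, hL, hL', val_append]⟩
  | inv x _ hx =>
    obtain ⟨L, hL⟩ := hx
    exact ⟨_, Units.inv_eq_of_mul_eq_one_right (by rw [hL]; exact S.val_neg_reverse L)⟩

theorem exists_mem_val : ∀ L : List (ι × k), ∃ g ∈ S.group, (g : Matrix n n k) = S.val L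
  | [] => ⟨1, one_mem _, rfl⟩
  | p :: L => by
    obtain ⟨g, hg, e⟩ := exists_mem_val L
    exact ⟨S.gen p.1 p.2 * g, mul_mem (Subgroup.subset_closure ⟨p, rfl⟩) hg, by simp [val, gen, e]⟩

theorem det_eq_one {g : GL n k} (hg : g ∈ S.group) : (g : Matrix n n k).det = 1 := by
  obtain ⟨L, hL⟩ := S.exists_val_of_mem hg
  rw [hL, val_det]

/-- The matrix of polynomials of a word. -/
noncomputable def polyVal : (w : List ι) → Matrix n n (MvPolynomial ℕ k)
  | [] => 1
  | i :: w => (S.X i).map (Polynomial.aeval (MvPolynomial.X w.length : MvPolynomial ℕ k)) * polyVal w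

/-- The parameters of a word read off an assignment. -/
def params (t : ℕ → k) : List ι → List (ι × k)
  | [] => []
  | i :: w => (i, t w.length) :: params t w

theorem eval_polyVal (t : ℕ → k) : ∀ w : List ι,
    (S.polyVal w).map (MvPolynomial.eval t) = S.val (params t w)
  | [] => by simp [polyVal, params, val, Matrix.map_one]
  | i :: w => by
    rw [polyVal, Matrix.map_mul, eval_polyVal t w, params, val]
    congr 1
    ext a b
    have e := Polynomial.aeval_algHom_apply (MvPolynomial.aeval t)
      (MvPolynomial.X w.length : MvPolynomial ℕ k) (S.X i a b)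
    rw [MvPolynomial.aeval_X, Polynomial.coe_aeval_eq_eval] at e
    simp only [Matrix.map_apply]
    exact e.symm

theorem exists_params : ∀ L : List (ι × k), ∃ t : ℕ → k, params t (L.map Prod.fst) = L
  | [] => ⟨0, rfl⟩
  | p :: L => by
    obtain ⟨t, ht⟩ := exists_params L
    refine ⟨Function.update t L.length p.2, ?_⟩
    rw [List.map_cons, params, List.length_map, Function.update_self]
    refine congrArg₂ List.cons rfl (Eq.trans ?_ ht)
    have key : ∀ (w : List ι) (m : ℕ), w.length ≤ m → ∀ a : k,
        params (Function.update t m a) w = params t w := by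
      intro w
      induction w with
      | nil => intros; rfl
      | cons i w ih =>
        intro m hm a
        rw [List.length_cons] at hm
        rw [params, params, Function.update_of_ne (by omega), ih m (by omega) a]
    exact key _ _ (by simp) _

omit [Field k] in
theorem params_fst (t : ℕ → k) : ∀ w : List ι, (params t w).map Prod.fst = w
  | [] => rfl
  | i :: w => by rw [params, List.map_cons, params_fst t w]

/-- The comorphism of a word. -/
noncomputable def wordHom (w : List ι) : MvPolynomial (n × n) k →ₐ[k] MvPolynomial ℕ k :=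
  MvPolynomial.aeval fun p => S.polyVal w p.1 p.2

theorem eval_wordHom (w : List ι) (t : ℕ → k) (h : MvPolynomial (n × n) k) :
    MvPolynomial.eval t (S.wordHom w h) = MvPolynomial.eval (fun p => S.val (params t w) p.1 p.2) h := by
  rw [← S.eval_polyVal t w, wordHom]
  have e : (MvPolynomial.aeval t).comp (MvPolynomial.aeval fun p : n × n => S.polyVal w p.1 p.2) =
      MvPolynomial.aeval fun p : n × n => ((S.polyVal w).map (MvPolynomial.eval t)) p.1 p.2 :=
    MvPolynomial.algHom_ext fun p => by
      simp only [AlgHom.comp_apply, MvPolynomial.aeval_X, Matrix.map_apply, MvPolynomial.aeval_eq_eval]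
  exact DFunLike.congr_fun e h

/-- The ideal of polynomials vanishing on the values of a word. -/
noncomputable def wordIdeal (w : List ι) : Ideal (MvPolynomial (n × n) k) := RingHom.ker (S.wordHom w)

instance (w : List ι) : (S.wordIdeal w).IsPrime := RingHom.ker_isPrime _

theorem mem_wordIdeal [Infinite k] {w : List ι} {h : MvPolynomial (n × n) k} :
    h ∈ S.wordIdeal w ↔
      ∀ L : List (ι × k), L.map Prod.fst = w → MvPolynomial.eval (fun p => S.val L p.1 p.2) h = 0 := by
  rw [wordIdeal, RingHom.mem_ker]
  constructor
  · intro hh L hL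
    obtain ⟨t, ht⟩ := exists_params L
    rw [hL] at ht
    rw [← ht, ← S.eval_wordHom, hh, map_zero]
  · intro hh
    refine MvPolynomial.funext fun t => ?_
    rw [S.eval_wordHom, map_zero, hh _ (params_fst t w)]

/-- The ideal of polynomials vanishing on the group. -/
noncomputable def ideal : Ideal (MvPolynomial (n × n) k) :=
  MvPolynomial.vanishingIdeal k ((fun g : GL n k => fun p : n × n => (g : Matrix n n k) p.1 p.2) '' S.group)

theorem mem_ideal {h : MvPolynomial (n × n) k} : h ∈ S.ideal ↔
    ∀ g ∈ S.group, MvPolynomial.eval (fun p => (g : Matrix n n k) p.1 p.2) h = 0 := by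
  simp [ideal, MvPolynomial.mem_vanishingIdeal_iff, MvPolynomial.aeval_eq_eval]

theorem exists_wordIdeal_eq [Infinite k] : ∃ w, S.ideal = S.wordIdeal w := by
  obtain ⟨w, hw⟩ : ∃ w, ∀ u, (S.wordIdeal w).height ≤ (S.wordIdeal u).height := by
    obtain ⟨m, ⟨w, rfl⟩, hm⟩ := WellFounded.has_min (wellFounded_lt (α := ℕ∞))
      (Set.range fun w => (S.wordIdeal w).height) ⟨_, [], rfl⟩
    exact ⟨w, fun u => not_lt.1 (hm _ ⟨u, rfl⟩)⟩
  refine ⟨w, le_antisymm (fun h hh => S.mem_wordIdeal.2 fun L _ => ?_) fun h hh => S.mem_ideal.2 fun g hg => ?_⟩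
  · obtain ⟨g, hg, e⟩ := S.exists_mem_val L
    rw [← e]
    exact S.mem_ideal.1 hh g hg
  obtain ⟨L, hL⟩ := S.exists_val_of_mem hg
  have hle : S.wordIdeal (w ++ L.map Prod.fst) ≤ S.wordIdeal w := by
    intro f hf
    refine S.mem_wordIdeal.2 fun K hK => ?_
    have := S.mem_wordIdeal.1 hf (K ++ (L.map Prod.fst).map fun i => (i, (0 : k)))
      (by simp [hK, List.map_map, Function.comp_def])
    rwa [val_append, val_zeros, mul_one] at this
  rcases hle.lt_or_eq with hlt | heq
  · exact absurd ((Ideal.height_add_one_le_of_lt_of_isPrime hlt).trans (hw _)) (by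
      intro hc
      have hne := Ideal.height_ne_top_of_isPrime (I := S.wordIdeal (w ++ L.map Prod.fst))
      obtain ⟨a, ha⟩ := ENat.ne_top_iff_exists.1 hne
      rw [← ha] at hc
      exact absurd hc (by exact_mod_cast Nat.not_succ_le_self a))
  rw [← heq] at hh
  have := S.mem_wordIdeal.1 hh ((w.map fun i => (i, (0 : k))) ++ L) (by simp [List.map_map, Function.comp_def])
  rwa [val_append, val_zeros, one_mul, ← hL] at this

theorem ideal_isPrime [Infinite k] : S.ideal.IsPrime := by
  obtain ⟨w, hw⟩ := S.exists_wordIdeal_eq
  rw [hw]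
  infer_instance

/-- The zero locus of the vanishing ideal. -/
def InLocus (z : Matrix n n k) : Prop := ∀ h ∈ S.ideal, MvPolynomial.eval (fun p => z p.1 p.2) h = 0

omit [Fintype n] [DecidableEq n] in
theorem eval_subst (z : Matrix n n k) (M : Matrix n n (MvPolynomial (n × n) k)) (h : MvPolynomial (n × n) k) :
    MvPolynomial.eval (fun p => z p.1 p.2) (MvPolynomial.aeval (fun p : n × n => M p.1 p.2) h) =
      MvPolynomial.eval (fun p => (M.map (MvPolynomial.eval fun p => z p.1 p.2)) p.1 p.2) h := by
  have e : (MvPolynomial.aeval (fun p : n × n => z p.1 p.2)).comp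
      (MvPolynomial.aeval fun p : n × n => M p.1 p.2) =
      MvPolynomial.aeval fun p : n × n => (M.map (MvPolynomial.eval fun p => z p.1 p.2)) p.1 p.2 :=
    MvPolynomial.algHom_ext fun p => by
      simp only [AlgHom.comp_apply, MvPolynomial.aeval_X, Matrix.map_apply, MvPolynomial.aeval_eq_eval]
  exact DFunLike.congr_fun e h

omit [Fintype n] [DecidableEq n] in
theorem eval_mvPolynomialX (z : Matrix n n k) :
    (Matrix.mvPolynomialX n n k).map (MvPolynomial.eval fun p => z p.1 p.2) = z := by
  ext a b; simp [Matrix.mvPolynomialX]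

omit [Fintype n] [DecidableEq n] in
theorem eval_C_matrix (z A : Matrix n n k) :
    (A.map (MvPolynomial.C : k →+* MvPolynomial (n × n) k)).map (MvPolynomial.eval fun p => z p.1 p.2) = A := by
  ext a b; simp

theorem inLocus_of_mem {g : GL n k} (hg : g ∈ S.group) : S.InLocus (g : Matrix n n k) :=
  fun _ hh => S.mem_ideal.1 hh g hg

theorem InLocus.det {z : Matrix n n k} (hz : S.InLocus z) : z.det = 1 := by
  have h : (Matrix.mvPolynomialX n n k).det - 1 ∈ S.ideal := S.mem_ideal.2 fun g hg => by
    rw [map_sub, RingHom.map_det, map_one, RingHom.mapMatrix_apply, eval_mvPolynomialX, S.det_eq_one hg,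
      sub_self]
  have := hz _ h
  rwa [map_sub, RingHom.map_det, map_one, RingHom.mapMatrix_apply, eval_mvPolynomialX, sub_eq_zero] at this

theorem InLocus.mul {y z : Matrix n n k} (hy : S.InLocus y) (hz : S.InLocus z) : S.InLocus (y * z) := by
  intro h hh
  have h1 : MvPolynomial.aeval
      (fun p : n × n => (Matrix.mvPolynomialX n n k * z.map (MvPolynomial.C : k →+* MvPolynomial (n × n) k)) p.1 p.2) h ∈ S.ideal := by
    refine S.mem_ideal.2 fun g hg => ?_
    rw [eval_subst, Matrix.map_mul, eval_mvPolynomialX, eval_C_matrix]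
    have h2 : MvPolynomial.aeval (fun p : n × n =>
        (((g : Matrix n n k)).map (MvPolynomial.C : k →+* MvPolynomial (n × n) k) * Matrix.mvPolynomialX n n k) p.1 p.2) h ∈ S.ideal := by
      refine S.mem_ideal.2 fun g' hg' => ?_
      rw [eval_subst, Matrix.map_mul, eval_mvPolynomialX, eval_C_matrix, ← Units.val_mul]
      exact S.mem_ideal.1 hh _ (mul_mem hg hg')
    have := hz _ h2
    rwa [eval_subst, Matrix.map_mul, eval_mvPolynomialX, eval_C_matrix] at this
  have := hy _ h1
  rwa [eval_subst, Matrix.map_mul, eval_mvPolynomialX, eval_C_matrix] at this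

theorem InLocus.adjugate {z : Matrix n n k} (hz : S.InLocus z) : S.InLocus z.adjugate := by
  intro h hh
  have h1 : MvPolynomial.aeval
      (fun p : n × n => (Matrix.mvPolynomialX n n k).adjugate p.1 p.2) h ∈ S.ideal := by
    refine S.mem_ideal.2 fun g hg => ?_
    rw [eval_subst, ← RingHom.mapMatrix_apply, RingHom.map_adjugate, RingHom.mapMatrix_apply,
      eval_mvPolynomialX]
    have e : (g : Matrix n n k).adjugate = ((g⁻¹ : GL n k) : Matrix n n k) := by
      refine (Units.inv_eq_of_mul_eq_one_right ?_).symm
      rw [Matrix.mul_adjugate, S.det_eq_one hg, one_smul]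
    rw [e]
    exact S.mem_ideal.1 hh _ (inv_mem hg)
  have := hz _ h1
  rwa [eval_subst, ← RingHom.mapMatrix_apply, RingHom.map_adjugate, RingHom.mapMatrix_apply,
    eval_mvPolynomialX] at this

end Family

end Cfsg.Agent.LangSteinberg
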