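import Cfsg.Agent.Lib.LangSteinberg.Endo
import Cfsg.Agent.Lib.LangSteinberg.PolyGroup

/-!
# The Lang–Steinberg theorem for groups generated by polynomial one-parameter subgroups

`exists_lang`: if the group is stable under `F : g ↦ P g^(q) P⁻¹` (`g^(q)`: entrywise `q`th powers,
`2 ≤ q`), every element has the form `h⁻¹ F(h)`.
-/

set_option autoImplicit false

namespace Cfsg.Agent.LangSteinberg.Family

open MvPolynomial Matrix

variable {k : Type*} [Field k] {n : Type*} [Fintype n] [DecidableEq n] {ι : Type*} (S : Family k n ι)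

/-- The prime of a point. -/
noncomputable def pointPrime (z : Matrix n n k) : PrimeSpectrum (MvPolynomial (n × n) k) :=
  ⟨RingHom.ker (MvPolynomial.eval fun p => z p.1 p.2), RingHom.ker_isPrime _⟩

variable [IsAlgClosed k]

/-- Some nonempty open piece of the zero locus consists of values of one word. -/
theorem exists_open_subset : ∃ f, f ∉ S.ideal ∧ ∀ z : Matrix n n k, S.InLocus z →
    MvPolynomial.eval (fun p => z p.1 p.2) f ≠ 0 → ∃ g ∈ S.group, (g : Matrix n n k) = z := by
  obtain ⟨w, hw⟩ := S.exists_wordIdeal_eq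
  let φw : MvPolynomial (n × n) k →ₐ[k] MvPolynomial (Fin w.length) k :=
    MvPolynomial.aeval fun p : n × n =>
      MvPolynomial.aeval (fun j : ℕ =>
        if h : j < w.length then (MvPolynomial.X ⟨j, h⟩ : MvPolynomial (Fin w.length) k) else 0)
        (S.polyVal w p.1 p.2)
  have hev : ∀ (t : Fin w.length → k) (h : MvPolynomial (n × n) k), MvPolynomial.eval t (φw h) =
      MvPolynomial.eval (fun j : ℕ => if hj : j < w.length then t ⟨j, hj⟩ else 0) (S.wordHom w h) := by
    intro t h
    have e : (MvPolynomial.aeval t).comp φw = (MvPolynomial.aeval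
        fun j : ℕ => if hj : j < w.length then t ⟨j, hj⟩ else 0).comp (S.wordHom w) := by
      refine MvPolynomial.algHom_ext fun p => ?_
      simp only [φw, wordHom, AlgHom.comp_apply, MvPolynomial.aeval_X]
      have e2 : (MvPolynomial.aeval t).comp (MvPolynomial.aeval fun j : ℕ =>
          if h : j < w.length then (MvPolynomial.X ⟨j, h⟩ : MvPolynomial (Fin w.length) k) else 0) =
          MvPolynomial.aeval fun j : ℕ => if hj : j < w.length then t ⟨j, hj⟩ else 0 := by
        refine MvPolynomial.algHom_ext fun j => ?_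
        simp only [AlgHom.comp_apply, MvPolynomial.aeval_X]
        split_ifs <;> simp
      exact DFunLike.congr_fun e2 _
    exact DFunLike.congr_fun e h
  have hlen : ∀ (u : List ι) (t t' : ℕ → k), (∀ j < u.length, t j = t' j) → params t u = params t' u := by
    intro u
    induction u with
    | nil => intros; rfl
    | cons i u ih =>
      intro t t' h
      rw [List.length_cons] at h
      rw [params, params, h _ (by omega), ih t t' fun j hj => h j (by omega)]
  have hker : ∀ h, φw h = 0 ↔ h ∈ S.ideal := by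
    intro h
    rw [hw, wordIdeal, RingHom.mem_ker]
    constructor
    · intro h0
      refine MvPolynomial.funext fun t => ?_
      have := hev (fun j => t j) h
      rw [h0, map_zero, S.eval_wordHom, hlen w _ t (fun j hj => by simp [hj]), ← S.eval_wordHom] at this
      rw [← this, map_zero]
    · intro h0
      refine MvPolynomial.funext fun t => ?_
      rw [hev, h0, map_zero, map_zero]
  have hfp : φw.toRingHom.FinitePresentation := by
    refine RingHom.FinitePresentation.of_finiteType.1 (RingHom.FiniteType.of_comp_finiteType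
      (f := algebraMap k (MvPolynomial (n × n) k)) ?_)
    rw [show φw.toRingHom.comp (algebraMap k (MvPolynomial (n × n) k)) =
      algebraMap k (MvPolynomial (Fin w.length) k) from φw.comp_algebraMap]
    exact RingHom.finiteType_algebraMap.2 inferInstance
  obtain ⟨C, hC⟩ := PrimeSpectrum.exists_constructibleSetData_iff.2
    (PrimeSpectrum.isConstructible_range_comap hfp)
  have hP : (⟨S.ideal, S.ideal_isPrime⟩ : PrimeSpectrum (MvPolynomial (n × n) k)) ∈
      Set.range (PrimeSpectrum.comap φw.toRingHom) := by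
    refine ⟨⟨⊥, Ideal.isPrime_bot⟩, PrimeSpectrum.ext ?_⟩
    ext h
    simpa using hker h
  rw [← hC, PrimeSpectrum.ConstructibleSetData.toSet, Set.mem_iUnion₂] at hP
  obtain ⟨c, hc, hg, hf⟩ := hP
  refine ⟨c.f, fun h => hf (by simpa [PrimeSpectrum.mem_zeroLocus] using h), fun z hz hfz => ?_⟩
  have hmem : pointPrime z ∈ Set.range (PrimeSpectrum.comap φw.toRingHom) := by
    rw [← hC, PrimeSpectrum.ConstructibleSetData.toSet, Set.mem_iUnion₂]
    refine ⟨c, hc, ?_, ?_⟩
    · rw [PrimeSpectrum.mem_zeroLocus] at hg ⊢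
      exact fun h hh => hz h (hg hh)
    · rw [PrimeSpectrum.mem_zeroLocus, Set.singleton_subset_iff]
      exact hfz
  obtain ⟨Q, hQ⟩ := hmem
  obtain ⟨M, hM, hQM⟩ := Ideal.exists_le_maximal Q.asIdeal Q.isPrime.ne_top
  obtain ⟨t, rfl⟩ := MvPolynomial.isMaximal_iff_eq_vanishingIdeal_singleton.1 hM
  set t' : ℕ → k := fun j => if hj : j < w.length then t ⟨j, hj⟩ else 0 with ht'
  obtain ⟨g, hgS, hgv⟩ := S.exists_mem_val (params t' w)
  refine ⟨g, hgS, ?_⟩
  rw [hgv]
  ext a b
  have hh : MvPolynomial.X (a, b) - MvPolynomial.C (z a b) ∈ (pointPrime z).asIdeal := by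
    show _ ∈ RingHom.ker (MvPolynomial.eval fun p : n × n => z p.1 p.2)
    simp
  rw [← hQ] at hh
  have h2 := (MvPolynomial.mem_vanishingIdeal_singleton_iff _ _).1 (hQM hh)
  rw [MvPolynomial.aeval_eq_eval] at h2
  change MvPolynomial.eval t (φw _) = 0 at h2
  rw [hev, S.eval_wordHom, map_sub, MvPolynomial.eval_X, MvPolynomial.eval_C, sub_eq_zero] at h2
  exact h2

/-- The group is the zero locus of its vanishing ideal. -/
theorem exists_mem_of_inLocus {z : Matrix n n k} (hz : S.InLocus z) :
    ∃ g ∈ S.group, (g : Matrix n n k) = z := by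
  obtain ⟨f, hf, hsub⟩ := S.exists_open_subset
  set M := Matrix.mvPolynomialX n n k * z.map (MvPolynomial.C : k →+* MvPolynomial (n × n) k) with hM
  have hprod : ¬ f * MvPolynomial.aeval (fun p : n × n => M p.1 p.2) f ∈ S.ideal := by
    intro h
    rcases S.ideal_isPrime.mem_or_mem h with h | h
    · exact hf h
    · refine hf (S.mem_ideal.2 fun g hg => ?_)
      have := ((S.inLocus_of_mem hg).mul S hz.adjugate) _ h
      rwa [eval_subst, hM, Matrix.map_mul, eval_mvPolynomialX, eval_C_matrix, mul_assoc, Matrix.adjugate_mul,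
        hz.det, one_smul, mul_one] at this
  rw [S.mem_ideal] at hprod
  push Not at hprod
  obtain ⟨u, hu, hu'⟩ := hprod
  rw [map_mul, mul_ne_zero_iff, eval_subst, hM, Matrix.map_mul, eval_mvPolynomialX, eval_C_matrix] at hu'
  obtain ⟨v, hv, hv'⟩ := hsub _ ((S.inLocus_of_mem hu).mul S hz) hu'.2
  refine ⟨u⁻¹ * v, mul_mem (inv_mem hu) hv, ?_⟩
  rw [Units.val_mul, hv', ← mul_assoc, Units.inv_mul, one_mul]

/-- **Lang–Steinberg.** -/
theorem exists_lang (P : GL n k) {q : ℕ} (hq : 2 ≤ q)
    (hF : ∀ g ∈ S.group, ∃ g' ∈ S.group, (g' : Matrix n n k) =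
      (P : Matrix n n k) * (g : Matrix n n k).map (· ^ q) * ((P⁻¹ : GL n k) : Matrix n n k))
    {g : GL n k} (hg : g ∈ S.group) :
    ∃ h ∈ S.group, (h : Matrix n n k) * g =
      (P : Matrix n n k) * (h : Matrix n n k).map (· ^ q) * ((P⁻¹ : GL n k) : Matrix n n k) := by
  classical
  let cm : Matrix n n k → Matrix n n (MvPolynomial (n × n) k) := fun B => B.map MvPolynomial.C
  set L₀ : Matrix n n (MvPolynomial (n × n) k) := (Matrix.mvPolynomialX n n k).adjugate *
    (cm P * (Matrix.mvPolynomialX n n k).map (· ^ q) * cm (P⁻¹ : GL n k)) with hL₀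
  let ψ₀ : (MvPolynomial (n × n) k) →ₐ[k] (MvPolynomial (n × n) k) := MvPolynomial.aeval fun p : n × n => L₀ p.1 p.2
  have hL₀eval : ∀ z : Matrix n n k, L₀.map (MvPolynomial.eval fun p => z p.1 p.2) =
      z.adjugate * ((P : Matrix n n k) * z.map (· ^ q) * ((P⁻¹ : GL n k) : Matrix n n k)) := by
    intro z
    have e : ((Matrix.mvPolynomialX n n k).map (· ^ q)).map (MvPolynomial.eval fun p : n × n => z p.1 p.2) =
        z.map (· ^ q) := by
      ext a b; simp [Matrix.mvPolynomialX]
    rw [hL₀, Matrix.map_mul, Matrix.map_mul, Matrix.map_mul, e, ← RingHom.mapMatrix_apply,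
      RingHom.map_adjugate, RingHom.mapMatrix_apply, eval_mvPolynomialX, eval_C_matrix, eval_C_matrix]
  have hstab : ∀ h ∈ S.ideal, ψ₀ h ∈ S.ideal := by
    intro h hh
    refine S.mem_ideal.2 fun a ha => ?_
    obtain ⟨a', ha', e⟩ := hF a ha
    rw [eval_subst, hL₀eval, ← e]
    have e' : (a : Matrix n n k).adjugate * (a' : Matrix n n k) = ((a⁻¹ * a' : GL n k) : Matrix n n k) := by
      rw [Units.val_mul]
      congr 1
      refine (Units.inv_eq_of_mul_eq_one_right ?_).symm
      rw [Matrix.mul_adjugate, S.det_eq_one ha, one_smul]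
    rw [e']
    exact S.mem_ideal.1 hh _ (mul_mem (inv_mem ha) ha')
  have := S.ideal_isPrime
  let R := MvPolynomial (n × n) k ⧸ S.ideal
  let ψ : R →+* R := Ideal.quotientMap S.ideal ψ₀.toRingHom fun h hh => hstab h hh
  let T : Subring R := ψ.range
  have hψ : ∀ h : (MvPolynomial (n × n) k), ψ (Ideal.Quotient.mk S.ideal h) = Ideal.Quotient.mk S.ideal (ψ₀ h) :=
    fun h => Ideal.quotientMap_mk
  have hkT : ∀ c : k, Ideal.Quotient.mk S.ideal (MvPolynomial.C c) ∈ T := fun c =>
    ⟨Ideal.Quotient.mk S.ideal (MvPolynomial.C c), by rw [hψ]; simp [ψ₀]⟩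
  set x : Matrix n n R := (Matrix.mvPolynomialX n n k).map (Ideal.Quotient.mk S.ideal) with hx
  have hrel : ∀ a b, x a b ^ q = (((cm (P⁻¹ : GL n k)).map (Ideal.Quotient.mk S.ideal)) * x *
      (L₀.map (Ideal.Quotient.mk S.ideal)) * ((cm P).map (Ideal.Quotient.mk S.ideal))) a b := by
    have hdet : x.det = 1 := by
      rw [hx, ← RingHom.mapMatrix_apply, ← RingHom.map_det, ← map_one (Ideal.Quotient.mk S.ideal),
        Ideal.Quotient.eq]
      refine S.mem_ideal.2 fun a ha => ?_
      rw [map_sub, RingHom.map_det, map_one, RingHom.mapMatrix_apply, eval_mvPolynomialX, S.det_eq_one ha,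
        sub_self]
    have hinv : (cm (P⁻¹ : GL n k)) * cm P = 1 := by
      simp only [cm, ← Matrix.map_mul, Units.inv_mul, Matrix.map_one _ (map_zero _) (map_one _)]
    intro a b
    have e : (((cm (P⁻¹ : GL n k)).map (Ideal.Quotient.mk S.ideal)) * x *
        (L₀.map (Ideal.Quotient.mk S.ideal)) * ((cm P).map (Ideal.Quotient.mk S.ideal))) =
        ((Matrix.mvPolynomialX n n k).map (· ^ q)).map (Ideal.Quotient.mk S.ideal) := by
      rw [hL₀, Matrix.map_mul, Matrix.map_mul, Matrix.map_mul, ← RingHom.mapMatrix_apply (M :=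
        (Matrix.mvPolynomialX n n k).adjugate), RingHom.map_adjugate, RingHom.mapMatrix_apply, ← hx]
      have hinv' := congrArg (fun B : Matrix n n (MvPolynomial (n × n) k) => B.map (Ideal.Quotient.mk S.ideal)) hinv
      simp only [Matrix.map_mul, Matrix.map_one _ (map_zero _) (map_one _)] at hinv'
      simp only [mul_assoc]
      rw [← mul_assoc x, Matrix.mul_adjugate, hdet, one_smul, one_mul, ← mul_assoc, hinv', one_mul,
        mul_one]
    rw [e]
    simp [hx, Matrix.mvPolynomialX]
  let mon : (n × n →₀ ℕ) → R := fun d => Ideal.Quotient.mk S.ideal (MvPolynomial.monomial d 1)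
  let B : Submodule T R := Submodule.span T (Set.range fun d : n × n → Fin q =>
    mon (Finsupp.equivFunOnFinite.symm fun p => (d p : ℕ)))
  have hL₀T : ∀ a b, (L₀.map (Ideal.Quotient.mk S.ideal)) a b ∈ T := fun a b =>
    ⟨Ideal.Quotient.mk S.ideal (MvPolynomial.X (a, b)), by rw [hψ]; simp [ψ₀]⟩
  have hmon : ∀ (N : ℕ) (d : n × n →₀ ℕ), d.sum (fun _ e => e) ≤ N → mon d ∈ B := by
    intro N
    induction N using Nat.strong_induction_on with
    | _ N ih =>
      intro d hd
      by_cases hall : ∀ p, d p < q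
      · refine Submodule.subset_span ⟨fun p => ⟨d p, hall p⟩, ?_⟩
        show mon _ = mon d
        congr 1
        ext p
        simp
      push Not at hall
      obtain ⟨⟨a, b⟩, hab⟩ := hall
      set d' := d - Finsupp.single (a, b) q with hd'
      have hdd : d = Finsupp.single (a, b) q + d' := by
        rw [hd', add_tsub_cancel_of_le]
        exact Finsupp.single_le_iff.2 hab
      have hsum : d.sum (fun _ e => e) = q + d'.sum (fun _ e => e) := by
        conv_lhs => rw [hdd]
        rw [Finsupp.sum_add_index' (fun _ => rfl) (fun _ _ _ => rfl), Finsupp.sum_single_index rfl]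
      have e : mon d = x a b ^ q * mon d' := by
        simp only [mon, hx, Matrix.map_apply, Matrix.mvPolynomialX, Matrix.of_apply, ← map_pow, ← map_mul,
          MvPolynomial.X_pow_eq_monomial, MvPolynomial.monomial_mul, one_mul, ← hdd]
      rw [e, hrel]
      simp only [Matrix.mul_apply, Finset.sum_mul]
      rw [Finset.sum_mul]
      refine Submodule.sum_mem _ fun i _ => ?_
      rw [Finset.sum_mul]
      refine Submodule.sum_mem _ fun j _ => ?_
      rw [Finset.sum_mul]
      refine Submodule.sum_mem _ fun l _ => ?_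
      have e2 : ∀ c1 c2 c3 xx m : R, c1 * xx * c2 * c3 * m = c1 * c2 * c3 * (xx * m) := by intros; ring
      rw [e2]
      have hcT : ∀ (c : Matrix n n k) (u v : n), ((cm c).map (Ideal.Quotient.mk S.ideal)) u v ∈ T :=
        fun c u v => hkT (c u v)
      refine B.smul_mem (⟨_, mul_mem (mul_mem (hcT _ _ _) (hL₀T _ _)) (hcT _ _ _)⟩ : T) ?_
      have e3 : x l j * mon d' = mon (Finsupp.single (l, j) 1 + d') := by
        simp only [mon, hx, Matrix.map_apply, Matrix.mvPolynomialX, Matrix.of_apply, MvPolynomial.X,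
          ← map_mul, MvPolynomial.monomial_mul, one_mul]
      rw [e3]
      have hlt : (Finsupp.single (l, j) 1 + d').sum (fun _ e => e) < N := by
        rw [Finsupp.sum_add_index' (fun _ => rfl) (fun _ _ _ => rfl), Finsupp.sum_single_index rfl]
        omega
      exact ih _ hlt _ le_rfl
  have hint : ψ.IsIntegral := by
    have htop : B = ⊤ := by
      rw [eq_top_iff]
      rintro r -
      obtain ⟨h, rfl⟩ := Ideal.Quotient.mk_surjective r
      induction h using MvPolynomial.induction_on' with
      | monomial d c =>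
        have : Ideal.Quotient.mk S.ideal (MvPolynomial.monomial d c) = (⟨_, hkT c⟩ : T) • mon d := by
          rw [Subring.smul_def, smul_eq_mul, ← map_mul, MvPolynomial.C_mul_monomial, mul_one]
        rw [this]
        exact B.smul_mem _ (hmon _ d le_rfl)
      | add f g hf hg => rw [map_add]; exact B.add_mem hf hg
    have : Module.Finite T R := ⟨by
      rw [← htop]
      exact Submodule.fg_span (Set.finite_range _)⟩
    have : Algebra.IsIntegral T R := Algebra.IsIntegral.of_finite T R
    have h1 : (algebraMap T R).IsIntegral := Algebra.IsIntegral.isIntegral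
    exact RingHom.IsIntegral.trans ψ.rangeRestrict (algebraMap T R)
      (RingHom.isIntegral_of_surjective _ ψ.rangeRestrict_surjective) h1
  have hinj : Function.Injective ψ := injective_of_isIntegral ψ hint
  let ev : R →+* k := Ideal.Quotient.lift S.ideal (MvPolynomial.eval fun p => (g : Matrix n n k) p.1 p.2)
    fun h hh => S.mem_ideal.1 hh g hg
  have hne : (RingHom.ker ev).map ψ ≠ ⊤ := by
    rw [Ne, Ideal.map_eq_top_iff_of_ker_le ψ
      (by rw [(RingHom.injective_iff_ker_eq_bot ψ).1 hinj]; exact bot_le) hint]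
    exact RingHom.ker_ne_top ev
  obtain ⟨M, hM, hle⟩ := Ideal.exists_le_maximal _ hne
  have hM' := Ideal.comap_isMaximal_of_surjective (K := M) (Ideal.Quotient.mk S.ideal)
    Ideal.Quotient.mk_surjective
  obtain ⟨t, ht⟩ := MvPolynomial.isMaximal_iff_eq_vanishingIdeal_singleton.1 hM'
  set z : Matrix n n k := Matrix.of fun a b => t (a, b) with hzdef
  have hzt : (fun p : n × n => z p.1 p.2) = t := rfl
  have hmemM : ∀ h, Ideal.Quotient.mk S.ideal h ∈ M → MvPolynomial.eval t h = 0 := fun h hh => by
    rw [← MvPolynomial.aeval_eq_eval, ← MvPolynomial.mem_vanishingIdeal_singleton_iff, ← ht]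
    exact hh
  have hzloc : S.InLocus z := fun h hh => by
    rw [hzt]
    refine hmemM h ?_
    rw [Ideal.Quotient.eq_zero_iff_mem.2 hh]
    exact M.zero_mem
  obtain ⟨h, hhS, hhz⟩ := S.exists_mem_of_inLocus hzloc
  refine ⟨h, hhS, ?_⟩
  have hL : z.adjugate * ((P : Matrix n n k) * z.map (· ^ q) * ((P⁻¹ : GL n k) : Matrix n n k)) =
      (g : Matrix n n k) := by
    rw [← hL₀eval]
    ext a b
    have : Ideal.Quotient.mk S.ideal (L₀ a b - MvPolynomial.C ((g : Matrix n n k) a b)) ∈ M := by
      refine hle ?_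
      have e : Ideal.Quotient.mk S.ideal (L₀ a b - MvPolynomial.C ((g : Matrix n n k) a b)) =
          ψ (Ideal.Quotient.mk S.ideal (MvPolynomial.X (a, b) - MvPolynomial.C ((g : Matrix n n k) a b))) := by
        rw [hψ]; simp [ψ₀]
      rw [e]
      refine Ideal.mem_map_of_mem _ ?_
      have hev : ∀ f : (MvPolynomial (n × n) k), ev (Ideal.Quotient.mk S.ideal f) =
          MvPolynomial.eval (fun p : n × n => (g : Matrix n n k) p.1 p.2) f := fun f => Ideal.Quotient.lift_mk _ _ _
      rw [RingHom.mem_ker, hev]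
      simp
    have := hmemM _ this
    rw [map_sub, MvPolynomial.eval_C, sub_eq_zero, ← hzt] at this
    exact this
  rw [hhz, ← hL, ← mul_assoc, Matrix.mul_adjugate, hzloc.det, one_smul, one_mul]

end Cfsg.Agent.LangSteinberg.Family
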