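import Cfsg.Agent.Lib.Chev.FieldAutFixed
import Cfsg.Agent.Lib.LangSteinberg.Lang

/-!
# Lang's theorem for Chevalley groups, and their groups of fixed points

`exists_lang`: over an algebraically closed field of characteristic `p` every element of the group is
`h⁻¹ σ(h)` for the `p^a`-th power map `σ`, `a ≥ 1`.
`mem_image_iff_fixed`: for a finite field `F` inside, the fixed points of the `|F|`-th power map are the
image of the group over `F`, when a multiple of the inverse Cartan matrix by a power of `p` is integral.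
-/

set_option autoImplicit false

namespace Cfsg.Agent.LangSteinberg

open Cfsg.Lie Cfsg.Agent.Chev Cfsg.Agent.Chev.BNSetup Matrix

section Poly

variable {k : Type*} [Field k] [Infinite k]

/-- A matrix of polynomials giving a homomorphism from the additive group has determinant one. -/
theorem det_eval_eq_one {n : Type*} [Fintype n] [DecidableEq n] (X : Matrix n n (Polynomial k))
    (h0 : X.map (Polynomial.eval 0) = 1)
    (hadd : ∀ s t : k, X.map (Polynomial.eval (s + t)) = X.map (Polynomial.eval s) * X.map (Polynomial.eval t))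
    (t : k) : (X.map (Polynomial.eval t)).det = 1 := by
  have hev : ∀ s : k, (X.map (Polynomial.eval s)).det = Polynomial.eval s X.det := fun s =>
    ((Polynomial.evalRingHom s).map_det X).symm
  have hmul : X.det * X.det.comp (-Polynomial.X) = 1 := by
    refine Polynomial.funext fun s => ?_
    rw [Polynomial.eval_mul, Polynomial.eval_comp, Polynomial.eval_neg, Polynomial.eval_X, Polynomial.eval_one,
      ← hev, ← hev, ← det_mul, ← hadd, add_neg_cancel, h0, det_one]
  obtain ⟨c, -, hc⟩ := Polynomial.isUnit_iff.1 (IsUnit.of_mul_eq_one _ hmul)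
  have h1 := hev 0
  rw [h0, det_one, ← hc, Polynomial.eval_C] at h1
  rw [hev, ← hc, Polynomial.eval_C, ← h1]

end Poly

variable {D : ChevalleyDatum}

/-- The matrix of polynomials of a root element. -/
noncomputable def polyX (D : ChevalleyDatum) (k : Type*) [Field k] (r : Fin D.nroots) :
    Matrix D.Idx D.Idx (Polynomial k) :=
  Matrix.of fun row col =>
    match col with
    | Sum.inl i =>
      (match row with
       | Sum.inl i' => if i' = i then 1 else 0
       | Sum.inr u => if u = r then - (((D.cartanSR.getD i.val #[]).getD r.val 0 : ℤ) : Polynomial k) * Polynomial.X else 0)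
    | Sum.inr s =>
      if s = r then (match row with | Sum.inr u => if u = r then 1 else 0 | Sum.inl _ => 0)
      else if s.val = D.negIdx.getD r.val 0 then
        (match row with
         | Sum.inl i => (((D.coroot.getD r.val #[]).getD i.val 0 : ℤ) : Polynomial k) * Polynomial.X
         | Sum.inr u => if u = s then 1 else if u = r then -(Polynomial.X ^ 2) else 0)
      else
        (match row with
         | Sum.inl _ => 0
         | Sum.inr u => (if u = s then 1 else 0) +
             ((D.chainCoeff r.val s.val u.val).map fun km => ((km.2 : ℤ) : Polynomial k) * Polynomial.X ^ km.1).sum)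

theorem polyX_eval {k : Type*} [Field k] (r : Fin D.nroots) (t : k) :
    (polyX D k r).map (Polynomial.eval t) = D.xMat k r t := by
  rw [show Polynomial.eval t = ⇑(Polynomial.evalRingHom t) from rfl]
  ext row col
  rcases col with i | s <;> rcases row with j | u <;>
    simp only [Matrix.map_apply, ChevalleyDatum.xMat, polyX, Matrix.of_apply] <;>
    split_ifs <;>
    simp [Polynomial.eval_listSum, List.map_map, Function.comp_def, Polynomial.eval_intCast]

variable (hG : Good D)
include hG

/-- The root elements as a family of polynomial one-parameter subgroups. -/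
noncomputable def chevFamily (k : Type*) [Field k] [Infinite k] : Family k D.Idx (Fin D.nroots) :=
  have h0 : ∀ r : Fin D.nroots, (polyX D k r).map (Polynomial.eval 0) = 1 := fun r => by
    rw [polyX_eval]
    have := congrArg Units.val (xe_zero hG (F := k) r.2)
    rwa [coe_xe, ChevalleyDatum.x, dif_pos r.2, Units.val_one] at this
  have hadd : ∀ (r : Fin D.nroots) (s t : k), (polyX D k r).map (Polynomial.eval (s + t)) =
      (polyX D k r).map (Polynomial.eval s) * (polyX D k r).map (Polynomial.eval t) := fun r s t => by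
    rw [polyX_eval, polyX_eval, polyX_eval]
    have := congrArg Units.val (xe_add hG (F := k) r.2 s t)
    rw [Units.val_mul, coe_xe, coe_xe, coe_xe, ChevalleyDatum.x, dif_pos r.2, ChevalleyDatum.x, dif_pos r.2,
      ChevalleyDatum.x, dif_pos r.2] at this
    exact this.symm
  { X := polyX D k
    zero := h0
    add := hadd
    det := fun r t => det_eval_eq_one (polyX D k r) (h0 r) (hadd r) t }

theorem chevFamily_group (k : Type*) [Field k] [Infinite k] : (chevFamily hG k).group = D.group k := by
  refine congrArg Subgroup.closure (Set.ext fun g => ⟨?_, ?_⟩)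
  · rintro ⟨⟨r, t⟩, rfl⟩
    exact ⟨r, t, polyX_eval r t⟩
  · rintro ⟨r, t, hg⟩
    exact ⟨⟨r, t⟩, Units.ext ((polyX_eval r t).trans hg.symm)⟩

theorem entryMap_mem_group {R S : Type*} [Field R] [Field S] (f : R →+* S) {g : GL D.Idx R}
    (hg : g ∈ D.group R) : entryMap D f g ∈ D.group S := by
  refine (show D.group R ≤ (D.group S).comap (entryMap D f) from ?_) hg
  conv_lhs => rw [group_eq_closure_xe hG]
  rw [Subgroup.closure_le]
  rintro _ ⟨r, hr, t, rfl⟩
  rw [SetLike.mem_coe, Subgroup.mem_comap, entryMap_xe hG]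
  exact xe_mem_group hG hr _

/-- **Lang's theorem** for a Chevalley group over an algebraically closed field. -/
theorem exists_lang {k : Type*} [Field k] [IsAlgClosed k] {p : ℕ} [Fact p.Prime] (σ : k →+* k) {a : ℕ}
    (ha : a ≠ 0) (hσ : ∀ t, σ t = t ^ p ^ a) {g : GL D.Idx k} (hg : g ∈ D.group k) :
    ∃ h ∈ D.group k, h⁻¹ * entryMap D σ h = g := by
  have hmap : ∀ x : GL D.Idx k, (entryMap D σ x : Matrix D.Idx D.Idx k) =
      (x : Matrix D.Idx D.Idx k).map (· ^ p ^ a) := fun x => Matrix.ext fun i j => hσ _
  obtain ⟨h, hh, e⟩ := (chevFamily hG k).exists_lang (1 : GL D.Idx k) (q := p ^ a)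
    (Nat.one_lt_pow ha (Fact.out : p.Prime).one_lt)
    (fun x hx => by
      rw [chevFamily_group] at hx ⊢
      exact ⟨_, entryMap_mem_group hG σ hx, by simp [hmap]⟩)
    (g := g) (by rwa [chevFamily_group])
  rw [chevFamily_group] at hh
  refine ⟨h, hh, ?_⟩
  rw [inv_mul_eq_iff_eq_mul]
  refine Units.ext ?_
  rw [hmap, Units.val_mul, e]
  simp

variable {F : Type*} [Field F] (σ : F ≃+* F)

theorem diagonal_fixed_of_mul (d : ℕ) (hd : Function.Injective fun t : F => t ^ d) (Bm : ℕ → ℕ → ℤ)
    (hBm : ∀ i < D.rank, ∀ k < D.rank,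
      ∑ j ∈ Finset.range D.rank, D.cartan i (D.simple j) * Bm j k = if i = k then (d : ℤ) else 0)
    {h : GL D.Idx F} (hh : h ∈ D.diagonalSubgroup F) (hfix : entryMap D (σ : F →+* F) h = h) :
    h ∈ fixedRoots hG σ := by
  obtain ⟨τ, hτ⟩ := diagonal_eq_prod hG hh
  set χ : ℕ → Fˣ := fun s => ∏ i ∈ Finset.range D.rank, τ i ^ D.cartan i s with hχ
  have hχc : ∀ s, ((χ s : Fˣ) : F) = ∏ i ∈ Finset.range D.rank, ((τ i ^ D.cartan i s : Fˣ) : F) :=
    fun s => map_prod (Units.coeHom F) _ _
  have hσχ : ∀ s < D.nroots, Units.map (σ : F →* F) (χ s) = χ s := by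
    intro s hs
    refine Units.ext ?_
    have e : σ ((h : Matrix D.Idx D.Idx F) (Sum.inr ⟨s, hs⟩) (Sum.inr ⟨s, hs⟩)) =
        (h : Matrix D.Idx D.Idx F) (Sum.inr ⟨s, hs⟩) (Sum.inr ⟨s, hs⟩) :=
      Matrix.ext_iff.2 (congrArg Units.val hfix) _ _
    rw [hτ, hdiag, Matrix.diagonal_apply_eq, Sum.elim_inr, ← hχc] at e
    exact e
  have key : ∀ k < D.rank, τ k ^ (d : ℤ) = ∏ j ∈ Finset.range D.rank, χ (D.simple j) ^ Bm j k := by
    intro k hk
    have e1 : ∀ j, χ (D.simple j) ^ Bm j k =
        ∏ i ∈ Finset.range D.rank, τ i ^ (D.cartan i (D.simple j) * Bm j k) := fun j => by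
      rw [hχ, ← Finset.prod_zpow]
      simp [_root_.zpow_mul]
    have e2 : ∀ (g : Fˣ) (f : ℕ → ℤ) (n : ℕ), ∏ j ∈ Finset.range n, g ^ f j = g ^ ∑ j ∈ Finset.range n, f j := by
      intro g f n
      induction n with
      | zero => simp
      | succ n ih => rw [Finset.prod_range_succ, Finset.sum_range_succ, ih, _root_.zpow_add]
    rw [Finset.prod_congr rfl fun j _ => e1 j, Finset.prod_comm,
      Finset.prod_congr rfl fun i _ => e2 (τ i) _ _, Finset.prod_eq_single_of_mem k (Finset.mem_range.2 hk)]
    · rw [hBm k hk k hk, if_pos rfl]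
    · intro i hi hik
      rw [hBm i (Finset.mem_range.1 hi) k hk, if_neg hik, zpow_zero]
  have hτfix : ∀ k < D.rank, σ (τ k : F) = τ k := by
    intro k hk
    refine hd ?_
    have : Units.map (σ : F →* F) (τ k ^ (d : ℤ)) = τ k ^ (d : ℤ) := by
      rw [key k hk, map_prod]
      refine Finset.prod_congr rfl fun j hj => ?_
      rw [map_zpow, hσχ _ (hG.simple_lt (Finset.mem_range.1 hj))]
    rw [zpow_natCast] at this
    have h2 := congrArg Units.val this
    simp only [Units.coe_map, Units.val_pow_eq_pow_val] at h2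
    show σ (τ k : F) ^ d = (τ k : F) ^ d
    rw [← map_pow]
    exact h2
  have he' : h = ((List.range D.rank).map fun i => he hG (D.simple i) (τ i : F)).prod :=
    Units.ext (hτ.trans (coe_prod_he hG τ D.rank le_rfl).symm)
  rw [he']
  refine list_prod_mem fun x hx => ?_
  obtain ⟨i, hi, rfl⟩ := List.mem_map.1 hx
  exact he_mem_fixedRoots hG σ (hG.simple_lt (List.mem_range.1 hi)) (hτfix i (List.mem_range.1 hi))

end Cfsg.Agent.LangSteinberg
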