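import Cfsg.Agent.Lib.Chev.FiniteSubfieldGroup
import Cfsg.Agent.Lib.LangSteinberg.ChevLang

/-!
# Fixed points of Frobenius in a Chevalley group over an algebraically closed field
-/

set_option autoImplicit false

namespace Cfsg.Agent.LangSteinberg

open Cfsg.Lie Cfsg.Agent.Chev Cfsg.Agent.Chev.BNSetup

theorem mem_range_iff_pow_card {F k : Type*} [Field F] [Fintype F] [Field k] (ι : F →+* k) (t : k) :
    t ∈ Set.range ι ↔ t ^ Fintype.card F = t := by
  classical
  constructor
  · rintro ⟨s, rfl⟩
    rw [← map_pow, FiniteField.pow_card]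
  · intro ht
    have hq := Fintype.one_lt_card (α := F)
    set P : Polynomial k := Polynomial.X ^ Fintype.card F - Polynomial.X with hP
    have hP0 : P ≠ 0 := FiniteField.X_pow_card_sub_X_ne_zero k hq
    have hsub : Finset.univ.image ι ⊆ P.roots.toFinset := by
      intro x hx
      obtain ⟨s, -, rfl⟩ := Finset.mem_image.1 hx
      rw [Multiset.mem_toFinset, Polynomial.mem_roots hP0, Polynomial.IsRoot.def, hP, Polynomial.eval_sub,
        Polynomial.eval_pow, Polynomial.eval_X, ← map_pow, FiniteField.pow_card, sub_self]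
    have hle : P.roots.toFinset.card ≤ (Finset.univ.image ι).card := by
      rw [Finset.card_image_of_injective _ ι.injective, Finset.card_univ]
      refine (Multiset.toFinset_card_le _).trans (P.card_roots'.trans ?_)
      rw [hP, FiniteField.X_pow_card_sub_X_natDegree_eq k hq]
    have hmem : t ∈ P.roots.toFinset := by
      rw [Multiset.mem_toFinset, Polynomial.mem_roots hP0, Polynomial.IsRoot.def, hP, Polynomial.eval_sub,
        Polynomial.eval_pow, Polynomial.eval_X, ht, sub_self]
    rw [← Finset.eq_of_subset_of_card_le hsub hle] at hmem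
    obtain ⟨s, -, rfl⟩ := Finset.mem_image.1 hmem
    exact ⟨s, rfl⟩

variable {D : ChevalleyDatum}

/-- The entrywise action of a ring homomorphism is injective. -/
theorem entryMap_injective {R S : Type*} [Field R] [Field S] (f : R →+* S) :
    Function.Injective (entryMap D f) :=
  Units.map_injective (Matrix.map_injective f.injective)

variable (hG : Good D) {tabs simps : List ℕ} (hf : Facts D tabs simps)
include hG hf

/-- The fixed points of a field automorphism are generated by root elements with fixed parameters, when a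
multiple of the inverse Cartan matrix by a number `d` with injective `d`-th power map is integral. -/
theorem fixed_mem_fixedRoots_of_mul {K : Type*} [Field K] (σ : K ≃+* K) (d : ℕ)
    (hd : Function.Injective fun t : K => t ^ d) (Bm : ℕ → ℕ → ℤ)
    (hBm : ∀ i < D.rank, ∀ k < D.rank,
      ∑ j ∈ Finset.range D.rank, D.cartan i (D.simple j) * Bm j k = if i = k then (d : ℤ) else 0)
    {g : GL D.Idx K} (hg : g ∈ D.group K) (hfix : entryMap D (σ : K →+* K) g = g) :
    g ∈ fixedRoots hG σ :=
  (sup_le (le_refl _) (fun _ hh => diagonal_fixed_of_mul hG σ d hd Bm hBm (Subgroup.mem_inf.1 hh).1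
      (Subgroup.mem_inf.1 hh).2) :
      fixedRoots hG σ ⊔ D.diagonalSubgroup K ⊓ (entryMap D (σ : K →+* K)).eqLocus (MonoidHom.id (GL D.Idx K)) ≤
        fixedRoots hG σ)
    (fixed_mem_roots_torus hG hf σ hg hfix)

/-- **The fixed points of the `|F|`-th power map are the group over `F`.** -/
theorem mem_image_iff_fixed {F k : Type*} [Field F] [Fintype F] [Field k] (ι : F →+* k) (σ : k ≃+* k)
    (hσ : ∀ t, σ t = t ^ Fintype.card F) (d : ℕ) (hd : Function.Injective fun t : k => t ^ d)
    (Bm : ℕ → ℕ → ℤ)
    (hBm : ∀ i < D.rank, ∀ j < D.rank,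
      ∑ l ∈ Finset.range D.rank, D.cartan i (D.simple l) * Bm l j = if i = j then (d : ℤ) else 0)
    (g : GL D.Idx k) :
    g ∈ (D.group F).map (entryMap D ι) ↔ g ∈ D.group k ∧ entryMap D (σ : k →+* k) g = g := by
  constructor
  · rintro ⟨x, hx, rfl⟩
    refine ⟨entryMap_mem_group hG ι hx, Units.ext (Matrix.ext fun i j => ?_)⟩
    show σ (ι ((x : Matrix D.Idx D.Idx F) i j)) = ι ((x : Matrix D.Idx D.Idx F) i j)
    rw [hσ, ← map_pow, FiniteField.pow_card]
  · rintro ⟨hg, hfix⟩
    refine (show fixedRoots hG σ ≤ (D.group F).map (entryMap D ι) from ?_)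
      (fixed_mem_fixedRoots_of_mul hG hf σ d hd Bm hBm hg hfix)
    rw [fixedRoots, Subgroup.closure_le]
    rintro _ ⟨r, hr, t, ht, rfl⟩
    rw [hσ] at ht
    obtain ⟨s, rfl⟩ := (mem_range_iff_pow_card ι t).2 ht
    exact ⟨_, xe_mem_group hG hr s, entryMap_xe hG ι r s⟩

omit hf in
/-- **Lang's theorem descended to `F`**: every element of the group over `F` is `h⁻¹ σ(h)` with `h` over an
algebraically closed field containing `F`. -/
theorem exists_lang_image {F k : Type*} [Field F] [Field k] [IsAlgClosed k] {p : ℕ} [Fact p.Prime]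
    (ι : F →+* k) (σ : k →+* k) {a : ℕ} (ha : a ≠ 0) (hσ : ∀ t, σ t = t ^ p ^ a) {g : GL D.Idx F}
    (hg : g ∈ D.group F) : ∃ h ∈ D.group k, h⁻¹ * entryMap D σ h = entryMap D ι g :=
  exists_lang hG σ ha hσ (entryMap_mem_group hG ι hg)

end Cfsg.Agent.LangSteinberg
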