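import Mathlib

/-!
# Integral endomorphisms of Noetherian domains

An endomorphism of a Noetherian domain over whose image the ring is integral is injective.
-/

set_option autoImplicit false

namespace Cfsg.Agent.LangSteinberg

variable {R : Type*} [CommRing R]

theorem isIntegral_pow (ψ : R →+* R) (h : ψ.IsIntegral) : ∀ n : ℕ, (ψ ^ n : R →+* R).IsIntegral
  | 0 => RingHom.isIntegral_of_surjective _ Function.surjective_id
  | n + 1 => by
    rw [pow_succ]
    exact RingHom.IsIntegral.trans _ _ h (isIntegral_pow ψ h n)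

theorem eq_zero_of_isIntegralElem [IsDomain R] {φ : R →+* R} (hker : ∀ y, φ (φ y) = 0 → φ y = 0)
    {x : R} (hx : φ x = 0) (hint : φ.IsIntegralElem x) : x = 0 := by
  by_contra hx0
  obtain ⟨q, hq, hev⟩ := hint
  suffices ∀ (d : ℕ) (q : Polynomial R), q.natDegree ≤ d → q.Monic → Polynomial.eval₂ φ x q ≠ 0 from
    this _ q le_rfl hq hev
  intro d
  induction d with
  | zero =>
    intro q hd hq
    rw [Polynomial.eq_C_of_natDegree_le_zero hd] at hq ⊢
    rw [Polynomial.Monic, Polynomial.leadingCoeff_C] at hq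
    simp [hq]
  | succ d ih =>
    intro q hd hq hev
    rcases Nat.eq_zero_or_pos q.natDegree with h0 | hpos
    · rw [Polynomial.eq_C_of_natDegree_eq_zero h0] at hq hev
      rw [Polynomial.Monic, Polynomial.leadingCoeff_C] at hq
      simp [hq] at hev
    have e := Polynomial.divX_mul_X_add q
    have h1 : φ (q.coeff 0) = 0 := by
      refine hker _ ?_
      have h2 := congrArg φ hev
      rw [← e, Polynomial.eval₂_add, Polynomial.eval₂_mul, Polynomial.eval₂_X, Polynomial.eval₂_C, map_add,
        map_mul, hx, mul_zero, zero_add, map_zero] at h2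
      exact h2
    rw [← e, Polynomial.eval₂_add, Polynomial.eval₂_mul, Polynomial.eval₂_X, Polynomial.eval₂_C, h1, add_zero,
      mul_eq_zero] at hev
    refine ih q.divX ?_ ?_ (hev.resolve_right hx0)
    · rw [Polynomial.natDegree_divX_eq_natDegree_tsub_one]
      omega
    · rw [Polynomial.Monic, Polynomial.leadingCoeff, Polynomial.natDegree_divX_eq_natDegree_tsub_one,
        Polynomial.coeff_divX]
      rw [Nat.sub_add_cancel hpos]
      exact hq

theorem injective_of_isIntegral [IsDomain R] [IsNoetherianRing R] (ψ : R →+* R) (h : ψ.IsIntegral) :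
    Function.Injective ψ := by
  have hcoe : ∀ (a b : ℕ) (y : R), (ψ ^ (a + b)) y = (ψ ^ a) ((ψ ^ b) y) := by
    intro a b y
    rw [pow_add]
    rfl
  let f : ℕ →o Ideal R := ⟨fun n => RingHom.ker (ψ ^ n : R →+* R), monotone_nat_of_le_succ fun n y hy => by
    rw [RingHom.mem_ker] at hy ⊢
    rw [add_comm n 1, hcoe 1 n, hy, map_zero]⟩
  obtain ⟨n, hn⟩ := WellFoundedGT.monotone_chain_condition f
  set φ : R →+* R := ψ ^ (n + 1) with hφ
  have hker : ∀ y, φ (φ y) = 0 → φ y = 0 := by
    intro y hy
    rw [hφ, ← hcoe, ← RingHom.mem_ker] at hy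
    rw [hφ, ← RingHom.mem_ker]
    have e1 : f n = f (n + 1) := hn _ (by omega)
    have e2 : f n = f (n + 1 + (n + 1)) := hn _ (by omega)
    exact (e2.symm.trans e1).le hy
  refine (injective_iff_map_eq_zero ψ).2 fun x hx => eq_zero_of_isIntegralElem hker ?_ (isIntegral_pow ψ h _ x)
  rw [hφ, hcoe, pow_one, hx, map_zero]

end Cfsg.Agent.LangSteinberg
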