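import Cfsg.Agent.Lib.Chev.BruhatNormalForm
import Cfsg.Agent.Lib.Chev.FieldAutFixed

/-!
# Characters of the torus of a Chevalley group, and centralizers of regular elements
-/

set_option autoImplicit false

namespace Cfsg.Agent.LangSteinberg

open Cfsg.Lie Cfsg.Agent.Chev Cfsg.Agent.Chev.BNSetup

variable {D : ChevalleyDatum} {F : Type*} [Field F]

/-- The value of the root with index `r` at a diagonal element. -/
def chi (t : GL D.Idx F) (r : Fin D.nroots) : F := (t : Matrix D.Idx D.Idx F) (Sum.inr r) (Sum.inr r)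

theorem chi_of_coe {t : GL D.Idx F} {χ : ℕ → F} (h : (t : Matrix D.Idx D.Idx F) = hdiag D χ)
    (r : Fin D.nroots) : chi t r = χ r.val := by
  rw [chi, h, hdiag, Matrix.diagonal_apply_eq, Sum.elim_inr]

/-- The product of the root values with the given exponents. -/
noncomputable def zprod {l : ℕ} (u : Fin l → Fˣ) (e : Fin l → ℤ) : Fˣ := ∏ j, u j ^ e j

variable (hG : Good D)
include hG

/-- The torus element with the given parameters. -/
noncomputable def torElt (τ : ℕ → Fˣ) : GL D.Idx F :=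
  ((List.range D.rank).map fun i => he hG (D.simple i) (τ i : F)).prod

theorem torElt_mem (τ : ℕ → Fˣ) : torElt hG τ ∈ D.diagonalSubgroup F := by
  refine list_prod_mem fun x hx => ?_
  obtain ⟨i, hi, rfl⟩ := List.mem_map.1 hx
  exact he_mem_H hG (hG.simple_lt (List.mem_range.1 hi)) (τ i).ne_zero

theorem chi_torElt (τ : ℕ → Fˣ) (r : Fin D.nroots) :
    chi (torElt hG τ) r = ((∏ i : Fin D.rank, τ i.val ^ D.cartan i.val r.val : Fˣ) : F) := by
  rw [chi_of_coe (t := torElt hG τ) (coe_prod_he hG τ D.rank le_rfl), Units.coe_prod,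
    Fin.prod_univ_eq_prod_range (fun i => ((τ i ^ D.cartan i r.val : Fˣ) : F)) D.rank]

theorem exists_torElt {t : GL D.Idx F} (ht : t ∈ D.diagonalSubgroup F) : ∃ τ, t = torElt hG τ := by
  obtain ⟨τ, hτ⟩ := diagonal_eq_prod hG ht
  exact ⟨τ, Units.ext (hτ.trans (coe_prod_he hG τ D.rank le_rfl).symm)⟩

theorem chi_ne_zero {t : GL D.Idx F} (ht : t ∈ D.diagonalSubgroup F) (r : Fin D.nroots) : chi t r ≠ 0 := by
  obtain ⟨τ, rfl⟩ := exists_torElt hG ht
  rw [chi_torElt]
  exact Units.ne_zero _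

theorem diagonal_ext {t t' : GL D.Idx F} (ht : t ∈ D.diagonalSubgroup F) (ht' : t' ∈ D.diagonalSubgroup F)
    (h : ∀ r, chi t r = chi t' r) : t = t' := by
  obtain ⟨τ, hτ⟩ := diagonal_eq_prod hG ht
  obtain ⟨τ', hτ'⟩ := diagonal_eq_prod hG ht'
  refine Units.ext ?_
  rw [hτ, hτ']
  refine hdiag_congr D fun s hs => ?_
  have := h ⟨s, hs⟩
  rwa [chi_of_coe hτ, chi_of_coe hτ'] at this

theorem chi_mul {t t' : GL D.Idx F} (ht : t ∈ D.diagonalSubgroup F) (ht' : t' ∈ D.diagonalSubgroup F)
    (r : Fin D.nroots) : chi (t * t') r = chi t r * chi t' r := by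
  obtain ⟨τ, hτ⟩ := diagonal_eq_prod hG ht
  obtain ⟨τ', hτ'⟩ := diagonal_eq_prod hG ht'
  rw [chi_of_coe (t := t * t') (by rw [Units.val_mul, hτ, hτ', hdiag_mul]), chi_of_coe hτ, chi_of_coe hτ']

omit hG in
theorem chi_one (r : Fin D.nroots) : chi (1 : GL D.Idx F) r = 1 := by
  simp [chi]

theorem chi_pow {t : GL D.Idx F} (ht : t ∈ D.diagonalSubgroup F) (r : Fin D.nroots) (n : ℕ) :
    chi (t ^ n) r = chi t r ^ n := by
  induction n with
  | zero => rw [pow_zero, pow_zero, chi_one]
  | succ n ih => rw [pow_succ, pow_succ, chi_mul hG (pow_mem ht n) ht, ih]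

/-- Conjugation of a root element by a torus element. -/
theorem conj_xe {t : GL D.Idx F} (ht : t ∈ D.diagonalSubgroup F) (r : Fin D.nroots) (u : F) :
    t * xe hG r.val u * t⁻¹ = xe hG r.val (chi t r * u) := by
  obtain ⟨τ, rfl⟩ := exists_torElt hG ht
  suffices key : ∀ n ≤ D.rank, ∀ u : F,
      ((List.range n).map fun i => he hG (D.simple i) (τ i : F)).prod * xe hG r.val u *
        (((List.range n).map fun i => he hG (D.simple i) (τ i : F)).prod)⁻¹ =
      xe hG r.val ((∏ i ∈ Finset.range n, ((τ i ^ D.cartan i r.val : Fˣ) : F)) * u) by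
    rw [chi_of_coe (t := torElt hG τ) (coe_prod_he hG τ D.rank le_rfl)]
    exact key D.rank le_rfl u
  intro n
  induction n with
  | zero => intro _ u; simp
  | succ n ih =>
    intro hn u
    have h1 : he hG (D.simple n) (τ n : F) * xe hG r.val u * (he hG (D.simple n) (τ n : F))⁻¹ =
        xe hG r.val (((τ n ^ D.cartan n r.val : Fˣ) : F) * u) := by
      rw [mul_inv_eq_iff_eq_mul]
      exact Units.ext (by
        simp [coe_he, coe_xe, hG.hMat_mul_x (by omega : n < D.rank) r.2 (τ n).ne_zero,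
          Units.val_zpow_eq_zpow_val])
    rw [List.range_succ, List.map_append, List.prod_append, List.map_cons, List.map_nil, List.prod_cons,
      List.prod_nil, mul_one, mul_inv_rev]
    calc _ = ((List.range n).map fun i => he hG (D.simple i) (τ i : F)).prod *
          (he hG (D.simple n) (τ n : F) * xe hG r.val u * (he hG (D.simple n) (τ n : F))⁻¹) *
          (((List.range n).map fun i => he hG (D.simple i) (τ i : F)).prod)⁻¹ := by group
      _ = _ := by rw [h1, ih (by omega), Finset.prod_range_succ, mul_assoc]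

/-- The values of all roots from those of the simple roots. -/
theorem chi_eq_zprod (coord : ℕ → ℕ → ℤ)
    (hc : ∀ i < D.rank, ∀ s < D.nroots,
      D.cartan i s = ∑ j ∈ Finset.range D.rank, coord s j * D.cartan i (D.simple j))
    {t : GL D.Idx F} (ht : t ∈ D.diagonalSubgroup F) (r : Fin D.nroots) :
    chi t r = ∏ j : Fin D.rank, chi t ⟨D.simple j.val, hG.simple_lt j.2⟩ ^ coord r.val j.val := by
  obtain ⟨τ, rfl⟩ := exists_torElt hG ht
  simp only [chi_torElt hG, ← Units.val_zpow_eq_zpow_val, ← Units.coe_prod, ← Finset.prod_zpow,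
    ← _root_.zpow_mul]
  rw [Finset.prod_comm]
  refine congrArg Units.val (Finset.prod_congr rfl fun i _ => ?_)
  have e2 : ∀ (g : Fˣ) (f : Fin D.rank → ℤ), ∏ j, g ^ f j = g ^ ∑ j, f j := by
    intro g f
    induction (Finset.univ : Finset (Fin D.rank)) using Finset.induction_on with
    | empty => simp
    | insert a s ha ih => rw [Finset.prod_insert ha, Finset.sum_insert ha, _root_.zpow_add, ih]
  rw [e2, hc i.val i.2 r.val r.2, ← Fin.sum_univ_eq_sum_range]
  exact congrArg _ (Finset.sum_congr rfl fun j _ => mul_comm _ _)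

/-- For a unimodular Cartan matrix every assignment of values to the simple roots occurs. -/
theorem exists_chi_simple (Bm : ℕ → ℕ → ℤ)
    (hBm : ∀ j < D.rank, ∀ k < D.rank,
      ∑ i ∈ Finset.range D.rank, Bm j i * D.cartan i (D.simple k) = if j = k then 1 else 0)
    (u : Fin D.rank → Fˣ) : ∃ t ∈ D.diagonalSubgroup F,
      ∀ j : Fin D.rank, chi t ⟨D.simple j.val, hG.simple_lt j.2⟩ = (u j : F) := by
  let τ : ℕ → Fˣ := fun i => ∏ j : Fin D.rank, u j ^ Bm j.val i
  refine ⟨torElt hG τ, torElt_mem hG τ, fun k => ?_⟩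
  rw [chi_torElt hG]
  refine congrArg Units.val ?_
  simp only [τ, ← Finset.prod_zpow, ← _root_.zpow_mul]
  rw [Finset.prod_comm, Finset.prod_eq_single k]
  · have e2 : ∀ (g : Fˣ) (f : Fin D.rank → ℤ), ∏ j, g ^ f j = g ^ ∑ j, f j := by
      intro g f
      induction (Finset.univ : Finset (Fin D.rank)) using Finset.induction_on with
      | empty => simp
      | insert a s ha ih => rw [Finset.prod_insert ha, Finset.sum_insert ha, _root_.zpow_add, ih]
    rw [e2, Fin.sum_univ_eq_sum_range (fun i => Bm k.val i * D.cartan i (D.simple k.val)),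
      hBm k.val k.2 k.val k.2, if_pos rfl, zpow_one]
  · intro j _ hjk
    have e2 : ∀ (g : Fˣ) (f : Fin D.rank → ℤ), ∏ j, g ^ f j = g ^ ∑ j, f j := by
      intro g f
      induction (Finset.univ : Finset (Fin D.rank)) using Finset.induction_on with
      | empty => simp
      | insert a s ha ih => rw [Finset.prod_insert ha, Finset.sum_insert ha, _root_.zpow_add, ih]
    rw [e2, Fin.sum_univ_eq_sum_range (fun i => Bm j.val i * D.cartan i (D.simple k.val)),
      hBm j.val j.2 k.val k.2, if_neg (fun h => hjk (Fin.ext h)), zpow_zero]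
  · simp

variable {tabs simps : List ℕ} (hf : Facts D tabs simps)
include hf

omit hf in
/-- The representative of a word maps each root element to a root element linearly, up to sign. -/
theorem nw_conj_xe (l : List (Fin D.rank)) (r : Fin D.nroots) :
    ∃ e : F, e * e = 1 ∧ ∀ u : F,
      (data hG F).nw l * xe hG r.val u * ((data hG F).nw l)⁻¹ = xe hG ((data hG F).wl l r).val (e * u) := by
  induction l with
  | nil => exact ⟨1, one_mul 1, fun u => by simp [RootBN.Data.nw, RootBN.Data.wl]⟩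
  | cons i l ih =>
    obtain ⟨e, he2, hl⟩ := ih
    obtain ⟨e', he2', hi, -⟩ := exists_conj hG (F := F) i.2 ((data hG F).wl l r).2
    refine ⟨e' * e, by linear_combination e' * e' * he2 + he2', fun u => ?_⟩
    rw [RootBN.Data.nw_cons, RootBN.Data.wl_cons, Equiv.Perm.mul_apply, data_refl, mul_inv_rev, mul_assoc e',
      ← hi, ← hl]
    simp only [show (data hG F).nn i = ne' hG (D.simple i.val) 1 from rfl]
    group

/-- The action of a word on torus values. -/
theorem chi_nw_conj (l : List (Fin D.rank)) {t : GL D.Idx F} (ht : t ∈ D.diagonalSubgroup F)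
    (r : Fin D.nroots) :
    chi ((data hG F).nw l * t * ((data hG F).nw l)⁻¹) ((data hG F).wl l r) = chi t r := by
  obtain ⟨e, he2, hl⟩ := nw_conj_xe hG (F := F) l r
  have ht' : (data hG F).nw l * t * ((data hG F).nw l)⁻¹ ∈ D.diagonalSubgroup F :=
    RootBN.Data.nw_H (axioms hG hf) l ht
  have h1 := conj_xe hG ht' ((data hG F).wl l r) (e * 1)
  rw [← hl 1] at h1
  have h2 : (data hG F).nw l * t * ((data hG F).nw l)⁻¹ *
      ((data hG F).nw l * xe hG r.val 1 * ((data hG F).nw l)⁻¹) *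
      ((data hG F).nw l * t * ((data hG F).nw l)⁻¹)⁻¹ =
      (data hG F).nw l * (t * xe hG r.val 1 * t⁻¹) * ((data hG F).nw l)⁻¹ := by group
  rw [h2, conj_xe hG ht, hl] at h1
  have h3 := xe_inj hG hf ((data hG F).wl l r).2 h1
  have he0 : e ≠ 0 := fun h => by simp [h] at he2
  refine mul_left_cancel₀ he0 ?_
  linear_combination -h3

omit hf in
theorem prodFrom_conj {t : GL D.Idx F} (ht : t ∈ D.diagonalSubgroup F) (a : ℕ → F) :
    ∀ k m : ℕ, k + m ≤ D.nroots → t * prodFrom hG F a k m * t⁻¹ =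
      prodFrom hG F (fun r => if h : r < D.nroots then chi t ⟨r, h⟩ * a r else 0) k m := by
  intro k m
  induction m generalizing k with
  | zero => intro _; simp [prodFrom]
  | succ m ih =>
    intro hk
    rw [prodFrom, prodFrom, ← conj_mul, ih (k + 1) (by omega), conj_xe hG ht ⟨k, by omega⟩,
      dif_pos (by omega : k < D.nroots)]

/-- A regular torus element commutes only with the trivial element of `U`. -/
theorem eq_one_of_commute_regular {t : GL D.Idx F} (ht : t ∈ D.diagonalSubgroup F) (hreg : ∀ r, chi t r ≠ 1)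
    {u : GL D.Idx F} (hu : u ∈ D.posUnipotent F) (hc : t * u * t⁻¹ = u) : u = 1 := by
  have hkm : D.nroots / 2 + (D.nroots - D.nroots / 2) = D.nroots := by omega
  rw [← Uge_eq_U hG hf] at hu
  obtain ⟨a, -, rfl⟩ := exists_prodFrom hG hf hkm le_rfl u hu
  rw [prodFrom_conj hG ht a _ _ hkm.le] at hc
  have h0 : ∀ r, D.nroots / 2 ≤ r → r < D.nroots → a r = 0 := by
    intro r hr hr'
    have := prodFrom_inj hG hf hkm le_rfl hc r hr hr'
    rw [dif_pos hr'] at this
    by_contra hne
    exact hreg ⟨r, hr'⟩ (mul_right_cancel₀ hne (this.trans (one_mul _).symm))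
  have : ∀ m k, k + m = D.nroots → D.nroots / 2 ≤ k → prodFrom hG F a k m = 1 := by
    intro m
    induction m with
    | zero => intros; rfl
    | succ m ih =>
      intro k hk hk'
      rw [prodFrom, h0 k hk' (by omega), xe_zero hG (by omega), ih (k + 1) (by omega) (by omega), one_mul]
  exact this _ _ hkm le_rfl

/-- **The centralizer of a regular torus element.** -/
theorem commute_regular (hn : NegTri D) {t : GL D.Idx F} (ht : t ∈ D.diagonalSubgroup F)
    (hreg : ∀ r, chi t r ≠ 1) {g : GL D.Idx F} (hg : g ∈ D.group F) (hc : t * g = g * t) :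
    ∃ h ∈ D.diagonalSubgroup F, ∃ l, g = h * (data hG F).nw l ∧
      ∀ r, chi t ((data hG F).wl l r) = chi t r := by
  have ax := axioms (F := F) hG hf
  obtain ⟨hex, huniq⟩ := bruhat_normal_form (F := F) hG hf hn
  obtain ⟨b, hb, n, hn', u, hu, rfl⟩ := hex g hg
  have hnN : n ∈ (data hG F).N := (data_N hG hf).ge hn'
  have htB : t ∈ D.borelSubgroup F := (le_sup_right : D.diagonalSubgroup F ≤ D.borelSubgroup F) ht
  set h' := t * (n * t⁻¹ * n⁻¹) with hh'
  have hh'H : h' ∈ D.diagonalSubgroup F :=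
    mul_mem ht (RootBN.Data.N_conj_H ax hnN (inv_mem ht))
  have hu' : t * u * t⁻¹ ∈ Subgroup.closure (negSet F D n) := by
    refine (show Subgroup.closure (negSet F D n) ≤
      (Subgroup.closure (negSet F D n)).comap (MulAut.conj t).toMonoidHom from ?_) hu
    rw [Subgroup.closure_le]
    rintro x ⟨r, s, hr, hle, hx⟩
    obtain rfl : x = xe hG r s := eq_xe hG hx
    refine Subgroup.subset_closure ⟨r, chi t ⟨r, hr.1⟩ * s, hr, hle, ?_⟩
    show ((t * xe hG r s * t⁻¹ : GL D.Idx F) : Matrix D.Idx D.Idx F) = _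
    rw [conj_xe hG ht ⟨r, hr.1⟩, coe_xe]
  have e : b * n * u = (t * b * t⁻¹ * h') * n * (t * u * t⁻¹) := by
    calc b * n * u = t * (b * n * u) * t⁻¹ := by rw [hc, mul_inv_cancel_right]
      _ = _ := by rw [hh']; group
  have hb' : t * b * t⁻¹ * h' ∈ D.borelSubgroup F :=
    mul_mem (mul_mem (mul_mem htB hb) (inv_mem htB))
      ((le_sup_right : D.diagonalSubgroup F ≤ D.borelSubgroup F) hh'H)
  obtain ⟨hbe, hue⟩ := (huniq b _ n n u _ hb hb' hn' hn' hu hu' e).2 rfl
  have huU : u ∈ D.posUnipotent F := by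
    refine (show Subgroup.closure (negSet F D n) ≤ D.posUnipotent F from ?_) hu
    rw [Subgroup.closure_le]
    rintro x ⟨r, s, hr, -, hx⟩
    exact Subgroup.subset_closure ⟨r, s, hr, hx⟩
  obtain rfl := eq_one_of_commute_regular hG hf ht hreg huU hue.symm
  obtain ⟨v, hv, h₀, hh₀, rfl⟩ := borel_decomp hG hf hb
  have hcomm : ∀ x ∈ D.diagonalSubgroup F, ∀ y ∈ D.diagonalSubgroup F, x * y = y * x := fun x hx y hy =>
    diagonal_ext hG (mul_mem hx hy) (mul_mem hy hx) fun r => by rw [chi_mul hG hx hy, chi_mul hG hy hx, mul_comm]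
  have htv : t * v * t⁻¹ ∈ D.posUnipotent F := by
    refine (show D.posUnipotent F ≤ (D.posUnipotent F).comap (MulAut.conj t).toMonoidHom from ?_) hv
    conv_lhs => rw [ChevalleyDatum.posUnipotent]
    rw [Subgroup.closure_le]
    rintro x ⟨r, s, hr, hx⟩
    obtain rfl : x = xe hG r s := eq_xe hG hx
    refine Subgroup.subset_closure ⟨r, chi t ⟨r, hr.1⟩ * s, hr, ?_⟩
    show ((t * xe hG r s * t⁻¹ : GL D.Idx F) : Matrix D.Idx D.Idx F) = _
    rw [conj_xe hG ht ⟨r, hr.1⟩, coe_xe]
  have hbe' : v * h₀ = (t * v * t⁻¹) * (h₀ * h') := by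
    rw [hbe]
    calc t * (v * h₀) * t⁻¹ * h' = t * v * t⁻¹ * (t * h₀ * t⁻¹) * h' := by group
      _ = _ := by rw [hcomm t ht h₀ hh₀, mul_inv_cancel_right]; group
  have hmem : (t * v * t⁻¹)⁻¹ * v ∈ D.posUnipotent F ⊓ D.diagonalSubgroup F := by
    refine Subgroup.mem_inf.2 ⟨mul_mem (inv_mem htv) hv, ?_⟩
    rw [show (t * v * t⁻¹)⁻¹ * v = h₀ * h' * h₀⁻¹ by
      rw [eq_mul_inv_iff_mul_eq, mul_assoc, hbe', inv_mul_cancel_left]]
    exact mul_mem (mul_mem hh₀ hh'H) (inv_mem hh₀)
  rw [U_inf_H hf hG, Subgroup.mem_bot, inv_mul_eq_one] at hmem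
  obtain rfl := eq_one_of_commute_regular hG hf ht hreg hv hmem
  obtain ⟨h₁, hh₁, l, rfl⟩ := RootBN.Data.exists_word ax hnN
  refine ⟨h₀ * h₁, mul_mem hh₀ hh₁, l, by group, fun r => ?_⟩
  have hh'1 : h' = 1 := by
    have := hbe'
    simp only [one_mul, mul_one, mul_inv_cancel] at this
    simpa using this
  have hnt : h₁ * ((data hG F).nw l * t * ((data hG F).nw l)⁻¹) * h₁⁻¹ = t := by
    rw [hh'] at hh'1
    calc _ = ((t * (h₁ * (data hG F).nw l * t⁻¹ * (h₁ * (data hG F).nw l)⁻¹))⁻¹) * t := by group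
      _ = t := by rw [hh'1, inv_one, one_mul]
  rw [hcomm h₁ hh₁ _ (RootBN.Data.nw_H ax l ht), mul_inv_cancel_right] at hnt
  conv_lhs => rw [← hnt]
  exact chi_nw_conj hG hf l ht r

end Cfsg.Agent.LangSteinberg
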