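import Cfsg.Agent.Lib.LangSteinberg.WeylF4.Facts
import Cfsg.Agent.Lib.LangSteinberg.TorusRoots
import Cfsg.Agent.Lib.Chev.Order
import Cfsg.Agent.Lib.Chev.Poincare

/-!
# Elements of order `rs` in F4 in characteristic two
-/

set_option autoImplicit false
set_option maxRecDepth 100000

namespace Cfsg.Agent.PrimeGraphF4

open Cfsg.Lie Cfsg.Agent.LangSteinberg Cfsg.Agent.Chev.BNSetup Cfsg.Agent.WeylF4

local notation "G4" => Cfsg.Agent.Chev.F4.good

/-- Prime divisors of the order. -/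
theorem exponent_cases {F : Type*} [Field F] [Fintype F] {n : ℕ} (hn : 1 ≤ n) (hF : Fintype.card F = 2 ^ n)
    {s : ℕ} (hs : s.Prime) (hs2 : s ≠ 2) (hsG : s ∣ Nat.card ↥(chevF4.group F)) :
    orderOf ((Fintype.card F : ℕ) : ZMod s) ∈ ({1, 2, 3, 4, 6, 8, 12} : Finset ℕ) := by
  have := Fact.mk hs
  have h := card_group (F := F) Cfsg.Agent.Chev.F4.good facts_chevF4 kerCertF4 kerCertF4_valid
    Cfsg.Agent.Chev.WeylTab.levelsF4 rfl Cfsg.Agent.Chev.WeylTab.levelsOK_F4
  simp only [show chevF4.rank = 4 from rfl, show chevF4.nroots / 2 = 24 from rfl,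
    mul_assoc (Fintype.card F ^ 24), Cfsg.Agent.Chev.WeylTab.poincare_F4 (Fintype.card F) Fintype.card_pos] at h
  set q := Fintype.card F
  have hd : s ∣ q ^ 24 * (([2, 6, 8, 12] : List ℕ).map fun x => q ^ x - 1).prod := by
    refine hsG.trans (dvd_trans ?_ (dvd_of_eq (?_ : Nat.gcd 1 (q - 1) ^ 0 * Nat.card ↥(chevF4.group F) = _)))
    · rw [pow_zero, one_mul]
    · rw [h]
      simp only [List.map_cons, List.map_nil, List.prod_cons, List.prod_nil]
      ring
  rcases hs.dvd_mul.1 hd with h1 | h1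
  · rw [hF, ← pow_mul] at h1
    exact absurd ((Nat.prime_dvd_prime_iff_eq hs Nat.prime_two).1 (hs.dvd_of_dvd_pow h1)) hs2
  · obtain ⟨x, hx, hsx⟩ := (hs.prime.dvd_prod_iff).1 h1
    obtain ⟨d, hd', rfl⟩ := List.mem_map.1 hx
    have h2 : ((q : ℕ) : ZMod s) ^ d = 1 := by
      rw [← ZMod.natCast_eq_zero_iff, Nat.cast_sub (Nat.one_le_pow _ _ Fintype.card_pos), sub_eq_zero] at hsx
      simpa using hsx
    have h3 := orderOf_dvd_of_pow_eq_one h2
    simp only [List.mem_cons, List.not_mem_nil, or_false] at hd'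
    have hall : ∀ e ≤ 12, e ∣ 2 ∨ e ∣ 6 ∨ e ∣ 8 ∨ e ∣ 12 → e ∈ ({1, 2, 3, 4, 6, 8, 12} : Finset ℕ) := by
      decide
    have hd0 : 0 < d ∧ d ≤ 12 := by rcases hd' with rfl | rfl | rfl | rfl <;> norm_num
    exact hall _ ((Nat.le_of_dvd hd0.1 h3).trans hd0.2) (by rcases hd' with rfl | rfl | rfl | rfl <;> tauto)

/-! ### Common tori of commuting elements -/

/-- The polynomial annihilating an element of the Weyl group, evaluated at `q`, kills torus values. -/
def pev (c : List ℤ) {R : Type*} [Ring R] (x : R) : R := ∑ t : Fin 5, (c.getD t.val 0 : R) * x ^ t.val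

section Finite

variable {K : Type} [Field K]

/-- The values of the roots at a torus element, additively. -/
noncomputable def av {t : GL chevF4.Idx K} (ht : t ∈ chevF4.diagonalSubgroup K) (i : Fin chevF4.nroots) :
    Additive Kˣ := Additive.ofMul (Units.mk0 (chi t i) (chi_ne_zero G4 ht i))

theorem av_eq {t : GL chevF4.Idx K} (ht : t ∈ chevF4.diagonalSubgroup K) (i : Fin chevF4.nroots) :
    ((Additive.toMul (av ht i) : Kˣ) : K) = chi t i := rfl

theorem add'_av {t : GL chevF4.Idx K} (ht : t ∈ chevF4.diagonalSubgroup K) : Add' (av ht) := by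
  intro s
  refine Additive.toMul.injective (Units.ext ?_)
  rw [av_eq, toMul_sum, Units.coe_prod,
    chi_eq_zprod G4 cdF4 (fun i hi r hr => coordsF4.sum_eq hi hr) ht s]
  refine Finset.prod_congr rfl fun i _ => ?_
  rw [toMul_zsmul, Units.val_zpow_eq_zpow_val, av_eq]
  rfl

theorem exists_av_ne_zero {t : GL chevF4.Idx K} (ht : t ∈ chevF4.diagonalSubgroup K) (h1 : t ≠ 1) :
    ∃ i, av ht i ≠ 0 := by
  by_contra h
  simp only [not_exists, not_not] at h
  refine h1 (diagonal_ext G4 ht (one_mem _) fun r => ?_)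
  rw [chi_one, ← av_eq ht r, h r]
  rfl

theorem smul_av {t : GL chevF4.Idx K} (ht : t ∈ chevF4.diagonalSubgroup K) (m : ℕ) (h : t ^ m = 1)
    (i : Fin chevF4.nroots) : m • av ht i = 0 := by
  refine Additive.toMul.injective (Units.ext ?_)
  rw [toMul_nsmul, Units.val_pow_eq_pow_val, av_eq, ← chi_pow G4 ht, h, chi_one]
  rfl

/-- Iterating the Weyl element multiplies the values by powers of `q`. -/
theorem av_iterate {t : GL chevF4.Idx K} (ht : t ∈ chevF4.diagonalSubgroup K) {l : List (Fin chevF4.rank)}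
    {q : ℕ} (hl : ∀ i, chi t (w K l i) = chi t i ^ q) (m : ℕ) (i : Fin chevF4.nroots) :
    av ht ((w K l ^ m) i) = (q : ℤ) ^ m • av ht i := by
  induction m generalizing i with
  | zero => simp
  | succ m ih =>
    rw [pow_succ, Equiv.Perm.mul_apply, ih, pow_succ, ← smul_smul]
    congr 1
    refine Additive.toMul.injective (Units.ext ?_)
    rw [natCast_zsmul, toMul_nsmul, Units.val_pow_eq_pow_val, av_eq, av_eq, hl]

theorem pev_eq_zero {t : GL chevF4.Idx K} (ht : t ∈ chevF4.diagonalSubgroup K) {l : List (Fin chevF4.rank)}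
    {q : ℕ} (hl : ∀ i, chi t (w K l i) = chi t i ^ q) {c : List ℤ} (hc : Ann K l c) {s : ℕ} (hs : s.Prime)
    (hts : t ^ s = 1) (h1 : t ≠ 1) : pev c (q : ZMod s) = 0 := by
  obtain ⟨i, hi⟩ := exists_av_ne_zero ht h1
  have h := hc _ (add'_av ht) i
  simp only [comb, av_iterate ht hl, smul_smul, ← Finset.sum_smul] at h
  have : Fact s.Prime := ⟨hs⟩
  have hord : addOrderOf (av ht i) = s := addOrderOf_eq_prime (smul_av ht s hts i) hi
  have hdvd := addOrderOf_dvd_iff_zsmul_eq_zero.2 h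
  rw [hord, ← ZMod.intCast_zmod_eq_zero_iff_dvd] at hdvd
  simpa [pev] using hdvd

/-- Regularity. -/
theorem regular {t : GL chevF4.Idx K} (ht : t ∈ chevF4.diagonalSubgroup K) {l : List (Fin chevF4.rank)}
    {q : ℕ} (hl : ∀ i, chi t (w K l i) = chi t i ^ q) (hsp : Spans K l) {s : ℕ} (hs : s.Prime) (hs2 : s ≠ 2)
    (hts : t ^ s = 1) (h1 : t ≠ 1) (i : Fin chevF4.nroots) : chi t i ≠ 1 := by
  intro hi
  obtain ⟨j, hj⟩ := exists_av_ne_zero ht h1
  have h0 : av ht i = 0 := Additive.toMul.injective (Units.ext (by rw [av_eq, hi]; rfl))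
  have h8 := hsp _ (add'_av ht) i (fun m _ => by rw [av_iterate ht hl, h0, smul_zero]) j
  have hcop : Nat.Coprime 8 s := (Nat.Coprime.pow_left 3 ((Nat.coprime_primes Nat.prime_two hs).2 (Ne.symm hs2)) :)
  refine hj (AddMonoid.addOrderOf_eq_one_iff.1 (Nat.eq_one_of_dvd_one ?_))
  rw [← hcop.gcd_eq_one]
  exact Nat.dvd_gcd (addOrderOf_dvd_of_nsmul_eq_zero h8) (addOrderOf_dvd_of_nsmul_eq_zero (smul_av ht s hts j))

end Finite

/-- Which exponents can occur together. -/
def Compat (k l : ℕ) : Prop :=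
  (k ∈ ({1, 2, 4} : Finset ℕ) ∧ l ∈ ({1, 2, 4} : Finset ℕ)) ∨
  (k ∈ ({1, 2, 3} : Finset ℕ) ∧ l ∈ ({1, 2, 3} : Finset ℕ)) ∨
  (k ∈ ({1, 2, 6} : Finset ℕ) ∧ l ∈ ({1, 2, 6} : Finset ℕ)) ∨ (k = 8 ∧ l = 8) ∨ (k = 12 ∧ l = 12)

theorem roots_four {s : ℕ} [Fact s.Prime] {x : ZMod s} (h : pev pFour x = 0) :
    orderOf x ∈ ({1, 2, 4} : Finset ℕ) := by
  simp [pev, pFour, Fin.sum_univ_five] at h
  have h4 : x ^ 4 = 1 := by linear_combination h
  have := Nat.mem_divisors.2 ⟨orderOf_dvd_of_pow_eq_one h4, (by norm_num : (4 : ℕ) ≠ 0)⟩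
  rwa [show Nat.divisors 4 = {1, 2, 4} by decide] at this

theorem two_ne_zero' {s : ℕ} [Fact s.Prime] (hs2 : s ≠ 2) : (2 : ZMod s) ≠ 0 := by
  intro h
  exact hs2 ((Nat.prime_dvd_prime_iff_eq Fact.out Nat.prime_two).1
    ((ZMod.natCast_eq_zero_iff 2 s).1 (by exact_mod_cast h)))

theorem roots_eight {s : ℕ} [Fact s.Prime] (hs2 : s ≠ 2) {x : ZMod s} (h : pev pEight x = 0) :
    orderOf x = 8 := by
  simp [pev, pEight, Fin.sum_univ_five] at h
  refine orderOf_eq_prime_pow (p := 2) (n := 2) (fun h4 => two_ne_zero' hs2 ?_) ?_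
  · norm_num at h4; linear_combination h - h4
  · norm_num; linear_combination (x ^ 4 - 1) * h

theorem sq_ne_three : ∀ z : ZMod 3, z ^ 2 ≠ -1 := by decide

theorem cube_two : ∀ z : ZMod 2, z ^ 3 = 1 → z = 1 := by decide

theorem roots_twelve {s : ℕ} [Fact s.Prime] (hs2 : s ≠ 2) {x : ZMod s} (h : pev pTwelve x = 0) :
    orderOf x = 12 := by
  simp [pev, pTwelve, Fin.sum_univ_five] at h
  have h6 : x ^ 6 = -1 := by linear_combination (x ^ 2 + 1) * h
  have h12 : x ^ 12 = 1 := by linear_combination (x ^ 6 - 1) * h6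
  have hm := Nat.mem_divisors.2 ⟨orderOf_dvd_of_pow_eq_one h12, (by norm_num : (12 : ℕ) ≠ 0)⟩
  rw [show Nat.divisors 12 = {1, 2, 3, 4, 6, 12} by decide] at hm
  have h6' : ¬ orderOf x ∣ 6 := fun hd => by
    rw [orderOf_dvd_iff_pow_eq_one, h6] at hd
    exact two_ne_zero' hs2 (by linear_combination -hd)
  simp only [Finset.mem_insert, Finset.mem_singleton] at hm
  rcases hm with hm | hm | hm | hm | hm | hm <;> try (rw [hm] at h6'; norm_num at h6')
  · exfalso
    have h4 : x ^ 4 = 1 := by rw [← hm, pow_orderOf_eq_one]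
    have hx2 : x ^ 2 = -1 := by linear_combination h6 - x ^ 2 * h4
    have h3 : (3 : ZMod s) = 0 := by linear_combination h - h4 + hx2
    have hs3 : s = 3 := (Nat.prime_dvd_prime_iff_eq Fact.out Nat.prime_three).1
      ((ZMod.natCast_eq_zero_iff 3 s).1 (by exact_mod_cast h3))
    subst hs3
    exact sq_ne_three x hx2
  · exact hm

theorem roots_three {s : ℕ} [Fact s.Prime] {x : ZMod s} (h : pev pThree x = 0) :
    orderOf x ∈ ({1, 2, 3} : Finset ℕ) := by
  simp [pev, pThree, Fin.sum_univ_five] at h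
  rcases mul_eq_zero.1 (show (x ^ 3 - 1) * (x + 1) = 0 by linear_combination h) with h1 | h1
  · have := Nat.mem_divisors.2 ⟨orderOf_dvd_of_pow_eq_one (sub_eq_zero.1 h1), (by norm_num : (3 : ℕ) ≠ 0)⟩
    rw [show Nat.divisors 3 = {1, 3} by decide] at this
    simp at this ⊢
    rcases this with h' | h' <;> simp [h']
  · have h2 : x ^ 2 = 1 := by linear_combination (x - 1) * h1
    have := Nat.mem_divisors.2 ⟨orderOf_dvd_of_pow_eq_one h2, (by norm_num : (2 : ℕ) ≠ 0)⟩
    rw [show Nat.divisors 2 = {1, 2} by decide] at this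
    simp at this ⊢
    rcases this with h' | h' <;> simp [h']

theorem roots_six {s : ℕ} [Fact s.Prime] {x : ZMod s} (h : pev pSix x = 0) :
    orderOf x ∈ ({1, 2, 6} : Finset ℕ) := by
  simp [pev, pSix, Fin.sum_univ_five] at h
  rcases mul_eq_zero.1 (show (x ^ 3 + 1) * (x - 1) = 0 by linear_combination h) with h1 | h1
  · have h6 : x ^ 6 = 1 := by linear_combination (x ^ 3 - 1) * h1
    have := Nat.mem_divisors.2 ⟨orderOf_dvd_of_pow_eq_one h6, (by norm_num : (6 : ℕ) ≠ 0)⟩
    rw [show Nat.divisors 6 = {1, 2, 3, 6} by decide] at this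
    simp at this ⊢
    rcases this with h' | h' | h' | h'
    · simp [h']
    · simp [h']
    · have h3 : x ^ 3 = 1 := by rw [← h', pow_orderOf_eq_one]
      have h2 : (2 : ZMod s) = 0 := by linear_combination h1 - h3
      have hs2 : s = 2 := by_contra fun hne => two_ne_zero' hne h2
      subst hs2
      have : x = 1 := cube_two x h3
      rw [this, orderOf_one] at h'
      exact absurd h' (by norm_num)
    · simp [h']
  · rw [sub_eq_zero.1 h1, orderOf_one]; simp

theorem compat_of_ann {K : Type} [Field K] {l : List (Fin chevF4.rank)} {q r s : ℕ} [Fact r.Prime]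
    [Fact s.Prime] (hr2 : r ≠ 2) (hs2 : s ≠ 2)
    (h : ∀ c, Ann K l c → pev c (q : ZMod r) = 0 ∧ pev c (q : ZMod s) = 0) :
    Compat (orderOf (q : ZMod r)) (orderOf (q : ZMod s)) := by
  rcases cases (F := K) l with ⟨hc | hc, -⟩ | hc | hc | hc
  · exact Or.inr (Or.inr (Or.inr (Or.inl ⟨roots_eight hr2 (h _ hc).1, roots_eight hs2 (h _ hc).2⟩)))
  · exact Or.inr (Or.inr (Or.inr (Or.inr ⟨roots_twelve hr2 (h _ hc).1, roots_twelve hs2 (h _ hc).2⟩)))
  · exact Or.inl ⟨roots_four (h _ hc).1, roots_four (h _ hc).2⟩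
  · exact Or.inr (Or.inl ⟨roots_three (h _ hc).1, roots_three (h _ hc).2⟩)
  · exact Or.inr (Or.inr (Or.inl ⟨roots_six (h _ hc).1, roots_six (h _ hc).2⟩))

/-- Torsion of the torus over a field with a primitive `r`-th root of unity, `r ≥ 5`. -/
theorem torus_torsion {K : Type} [Field K] {r : ℕ} (hr5 : 5 ≤ r) {ζ : Kˣ} (hζ : orderOf ζ = r)
    (i : Fin chevF4.nroots) : ∃ h ∈ chevF4.diagonalSubgroup K, h ^ r = 1 ∧ chi h i ≠ 1 := by
  have hsmall : ∀ s < chevF4.nroots, (∀ k < 4, (cdF4 s k).natAbs < 5) ∧ ∃ k < 4, cdF4 s k ≠ 0 := by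
    decide +kernel
  obtain ⟨hb, j, hj, hj0⟩ := hsmall i.val i.2
  obtain ⟨t, ht, hts⟩ := exists_chi_simple (F := K) G4 denF4
    (fun a ha b hb => by simpa [TorusData.list_range_sum_eq] using denF4_left a ha b hb)
    (fun k => if k.val = j then ζ else 1)
  have hchi : ∀ s : Fin chevF4.nroots, chi t s = ((ζ ^ cdF4 s.val j : Kˣ) : K) := fun s => by
    rw [chi_eq_zprod G4 cdF4 (fun i hi r hr => coordsF4.sum_eq hi hr) ht s,
      Finset.prod_eq_single (⟨j, hj⟩ : Fin chevF4.rank)]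
    · rw [hts, if_pos rfl, Units.val_zpow_eq_zpow_val]
    · intro k _ hk
      rw [hts, if_neg (fun h => hk (Fin.ext h)), Units.val_one, one_zpow]
    · simp
  refine ⟨t, ht, diagonal_ext G4 (pow_mem ht r) (one_mem _) fun s => ?_, fun h1 => ?_⟩
  · rw [chi_pow G4 ht, chi_one, hchi, ← Units.val_pow_eq_pow_val, ← zpow_natCast, ← _root_.zpow_mul,
      mul_comm, _root_.zpow_mul, zpow_natCast, ← hζ, pow_orderOf_eq_one, one_zpow, Units.val_one]
  · rw [hchi, Units.val_eq_one, ← orderOf_dvd_iff_zpow_eq_one, hζ] at h1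
    have := Int.natCast_dvd.1 h1
    exact hj0 (Int.natAbs_eq_zero.1 (Nat.eq_zero_of_dvd_of_lt this (lt_of_lt_of_le (hb j hj) hr5)))

theorem weyl_prime {K : Type} [Field K] {r : ℕ} (hr : r.Prime) (hr5 : 5 ≤ r) (l : List (Fin chevF4.rank))
    (h : (data G4 K).wl l ^ r = 1) : (data G4 K).wl l = 1 := by
  have hcop : r.Coprime 24 := (Nat.Prime.coprime_iff_not_dvd hr).2 fun hd => by
    have := Nat.le_of_dvd (by norm_num) hd
    interval_cases r <;> first
      | omega
      | exact absurd hd (by decide)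
      | exact absurd hr (by decide)
  rw [← orderOf_eq_one_iff]
  exact Nat.eq_one_of_dvd_coprimes hcop (orderOf_dvd_of_pow_eq_one h)
    (orderOf_dvd_of_pow_eq_one (pow_twentyFour (F := K) l))

theorem two_le_q {F : Type*} [Field F] [Fintype F] : 2 ≤ Fintype.card F := Fintype.one_lt_card

set_option maxHeartbeats 1600000 in
/-- An element of order `rs` forces compatible exponents. -/
theorem compat_of_commute {F : Type*} [Field F] [Fintype F] {n : ℕ} (hn : 1 ≤ n) (hF : Fintype.card F = 2 ^ n)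
    {r s : ℕ} (hr : r.Prime) (hs : s.Prime) (hrs : r ≠ s) (hs5 : 5 ≤ s)
    (hbig : 5 ≤ r ∨ orderOf ((Fintype.card F : ℕ) : ZMod s) ∈ ({8, 12} : Finset ℕ))
    {x y : ↥(chevF4.group F)} (hx : orderOf x = r) (hy : orderOf y = s) (hxy : x * y = y * x) :
    r ≠ 2 ∧ Compat (orderOf ((Fintype.card F : ℕ) : ZMod r)) (orderOf ((Fintype.card F : ℕ) : ZMod s)) := by
  classical
  have := Fact.mk hr
  have := Fact.mk hs
  obtain ⟨p, hp⟩ := CharP.exists F
  obtain ⟨⟨a, ha⟩, hpp, hcard⟩ := FiniteField.card F p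
  simp only [PNat.mk_coe] at hcard
  have := Fact.mk hpp
  have hpq : p ∣ 2 ^ n := by rw [← hF, hcard]; exact dvd_pow_self p ha.ne'
  have hp2 : p = 2 := (Nat.prime_dvd_prime_iff_eq hpp Nat.prime_two).1 (hpp.dvd_of_dvd_pow hpq)
  subst hp2
  set q := Fintype.card F with hq
  have : NeZero ((r - 1) * (s - 1)) :=
    ⟨Nat.mul_ne_zero (by have := hr.two_le; omega) (by omega)⟩
  let K := FiniteField.Extension F 2 ((r - 1) * (s - 1))
  have : Fintype K := Fintype.ofFinite K
  let ι : F →+* K := algebraMap F K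
  let φ : K →+* K := ↑(FiniteField.frobeniusAlgHom F K)
  have hφ : ∀ c : K, φ c = c ^ q := fun c => FiniteField.frobeniusAlgHom_apply ..
  have hroot : ∀ {m : ℕ}, m.Prime → m ≠ 2 → (m - 1) ∣ (r - 1) * (s - 1) → ∃ ζ : Kˣ, orderOf ζ = m := by
    intro m hm hm2 hdvd
    have := Fact.mk hm
    refine exists_prime_orderOf_dvd_card' m ?_
    rw [Nat.card_units, FiniteField.natCard_extension, Nat.card_eq_fintype_card,
      ← ZMod.natCast_eq_zero_iff, Nat.cast_sub (Nat.one_le_pow _ _ Fintype.card_pos), sub_eq_zero, Nat.cast_pow,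
      Nat.cast_one]
    obtain ⟨e, he⟩ := hdvd
    rw [he, pow_mul, ZMod.pow_card_sub_one_eq_one, one_pow]
    intro h0
    rw [ZMod.natCast_eq_zero_iff, ← hq, hF] at h0
    exact hm2 ((Nat.prime_dvd_prime_iff_eq hm Nat.prime_two).1 (hm.dvd_of_dvd_pow h0))
  have hs2 : s ≠ 2 := by omega
  let emb : ↥(chevF4.group F) →* GL chevF4.Idx K := (entryMap chevF4 ι).comp (chevF4.group F).subtype
  have hemb : Function.Injective emb := (entryMap_injective ι).comp Subtype.val_injective
  have hembG : ∀ z, emb z ∈ chevF4.group K := fun z => entryMap_mem_group G4 ι z.2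
  have hembfix : ∀ z, entryMap chevF4 φ (emb z) = emb z := fun z => Units.ext (Matrix.ext fun i j => by
    show φ (ι _) = ι _
    rw [hφ, ← map_pow, FiniteField.pow_card])
  have hne : ∀ {z : ↥(chevF4.group F)} {m : ℕ}, m.Prime → orderOf z = m → emb z ^ m = 1 ∧ emb z ≠ 1 := by
    intro z m hm hz
    refine ⟨by rw [← map_pow, ← hz, pow_orderOf_eq_one, map_one], fun h => hm.ne_one ?_⟩
    rw [← hz, orderOf_eq_one_iff]
    exact hemb (by rw [h, map_one])
  obtain ⟨hX, hX1⟩ := hne hr hx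
  obtain ⟨hY, hY1⟩ := hne hs hy
  have hXY : emb x * emb y = emb y * emb x := by rw [← map_mul, hxy, map_mul]
  have hf := facts_chevF4
  have hn' := negTri_chevF4
  -- the twisting relation
  have hrel : ∀ {g : GL chevF4.Idx K}, g ∈ chevF4.group K →
      ∃ l, ∀ z, g⁻¹ * emb z * g ∈ chevF4.diagonalSubgroup K →
        ∀ i, chi (g⁻¹ * emb z * g) (w K l i) = chi (g⁻¹ * emb z * g) i ^ q := by
    intro g hg
    have hφT : ∀ z ∈ chevF4.diagonalSubgroup K, entryMap chevF4 φ z ∈ chevF4.diagonalSubgroup K := by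
      intro z hz
      obtain ⟨τ, rfl⟩ := exists_torElt G4 hz
      rw [torElt, map_list_prod, List.map_map]
      refine list_prod_mem fun y hy => ?_
      obtain ⟨i, hi, rfl⟩ := List.mem_map.1 hy
      show entryMap chevF4 φ (he G4 (chevF4.simple i) (τ i : K)) ∈ _
      rw [entryMap_he G4]
      exact he_mem_H G4 (Cfsg.Agent.Chev.F4.good.simple_lt (List.mem_range.1 hi))
        ((map_ne_zero φ).2 (τ i).ne_zero)
    set N := g⁻¹ * entryMap chevF4 φ g with hN
    have hNG : N ∈ chevF4.group K := mul_mem (inv_mem hg) (entryMap_mem_group G4 φ hg)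
    have hc : ∀ z, N * entryMap chevF4 φ (g⁻¹ * emb z * g) = (g⁻¹ * emb z * g) * N := fun z => by
      rw [hN, map_mul, map_mul, map_inv, hembfix]; group
    obtain ⟨hex, -⟩ := bruhat_normal_form (F := K) G4 hf hn'
    obtain ⟨b, hb, nn, hnn, u, hu, hNeq⟩ := hex N hNG
    obtain ⟨v, hv, h₀, hh₀, rfl⟩ := borel_decomp G4 hf hb
    have ax := axioms (F := K) G4 hf
    obtain ⟨h₁, hh₁, l, rfl⟩ := RootBN.Data.exists_word ax ((data_N G4 hf).ge hnn)
    refine ⟨l, fun z hz i => ?_⟩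
    set t := g⁻¹ * emb z * g
    obtain ⟨-, -, -, hnt⟩ := normal_form_fix G4 hf hn' hz (hφT t hz) hv hh₀ hnn hu (by rw [← hNeq]; exact hc z)
    have hH : (data G4 K).nw l * entryMap chevF4 φ t * ((data G4 K).nw l)⁻¹ ∈ chevF4.diagonalSubgroup K :=
      RootBN.Data.nw_H ax l (hφT t hz)
    have e : (data G4 K).nw l * entryMap chevF4 φ t * ((data G4 K).nw l)⁻¹ = t := by
      calc _ = h₁ * ((data G4 K).nw l * entryMap chevF4 φ t * ((data G4 K).nw l)⁻¹) * h₁⁻¹ := by
            rw [diagonal_comm G4 hh₁ hH, mul_inv_cancel_right]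
        _ = h₁ * (data G4 K).nw l * entryMap chevF4 φ t * (h₁ * (data G4 K).nw l)⁻¹ := by group
        _ = t := hnt
    conv_lhs => rw [← e]
    rw [w, chi_nw_conj G4 hf l (hφT t hz) i]
    exact hφ _
  obtain ⟨ζs, hζs⟩ := hroot hs hs2 (dvd_mul_left _ _)
  -- the element of order `s`
  obtain ⟨g₁, hg₁, -, hY₁⟩ := exists_conj_pair (F := K) G4 hf hn' (torus_torsion hs5 hζs) (weyl_prime hs hs5)
    (one_mem _) (hembG y) (j := 1) (by rw [pow_one, hY]) (by simp)
  set t := g₁⁻¹ * emb y * g₁ with ht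
  have hconj : ∀ {g : GL chevF4.Idx K} (z : GL chevF4.Idx K) (m : ℕ), (g⁻¹ * z * g) ^ m = g⁻¹ * z ^ m * g := by
    intro g z m
    have := (map_pow (MulAut.conj g⁻¹).toMonoidHom z m).symm
    simpa [MulAut.conj_apply] using this
  have hconj1 : ∀ {g z : GL chevF4.Idx K}, z ≠ 1 → g⁻¹ * z * g ≠ 1 := by
    intro g z hz h
    apply hz
    calc z = g * (g⁻¹ * z * g) * g⁻¹ := by group
      _ = 1 := by rw [h]; group
  set ξ := g₁⁻¹ * emb x * g₁ with hξ
  have hξG : ξ ∈ chevF4.group K := mul_mem (mul_mem (inv_mem hg₁) (hembG x)) hg₁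
  have hξr : ξ ^ r = 1 := by rw [hξ, hconj, hX]; group
  have hξt : ξ * t = t * ξ := by
    calc ξ * t = g₁⁻¹ * (emb x * emb y) * g₁ := by rw [hξ, ht]; group
      _ = g₁⁻¹ * (emb y * emb x) * g₁ := by rw [hXY]
      _ = t * ξ := by rw [hξ, ht]; group
  -- a torus containing both
  obtain ⟨g, hg, hgy, hgx⟩ : ∃ g ∈ chevF4.group K, g⁻¹ * emb y * g ∈ chevF4.diagonalSubgroup K ∧
      g⁻¹ * emb x * g ∈ chevF4.diagonalSubgroup K := by
    by_cases hr5 : 5 ≤ r
    · obtain ⟨ζr, hζr⟩ := hroot hr (by omega) (dvd_mul_right _ _)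
      obtain ⟨g₂, hg₂, h1, h2⟩ := exists_conj_pair (F := K) G4 hf hn' (torus_torsion hr5 hζr) (weyl_prime hr hr5)
        hY₁ hξG (j := 1) (by rw [pow_one, hξr]) hξt
      refine ⟨g₁ * g₂, mul_mem hg₁ hg₂, ?_, ?_⟩
      · rw [show (g₁ * g₂)⁻¹ * emb y * (g₁ * g₂) = g₂⁻¹ * t * g₂ by rw [ht]; group]; exact h1
      · rw [show (g₁ * g₂)⁻¹ * emb x * (g₁ * g₂) = g₂⁻¹ * ξ * g₂ by rw [hξ]; group]; exact h2
    · refine ⟨g₁, hg₁, hY₁, ?_⟩
      have he := hbig.resolve_left hr5
      obtain ⟨l, hl⟩ := hrel hg₁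
      have hl' := hl y hY₁
      have hts : t ^ s = 1 := by rw [ht, hconj, hY]; group
      have ht1 : t ≠ 1 := hconj1 hY1
      have hann : ∀ c, Ann K l c → pev c (q : ZMod s) = 0 := fun c hc =>
        pev_eq_zero hY₁ hl' hc hs hts ht1
      have hsp : Spans K l := by
        rcases cases (F := K) l with ⟨-, hsp⟩ | hc | hc | hc
        · exact hsp
        · have := roots_four (hann _ hc); revert this he
          generalize orderOf ((q : ℕ) : ZMod s) = e; simp; omega
        · have := roots_three (hann _ hc); revert this he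
          generalize orderOf ((q : ℕ) : ZMod s) = e; simp; omega
        · have := roots_six (hann _ hc); revert this he
          generalize orderOf ((q : ℕ) : ZMod s) = e; simp; omega
      have hreg := regular hY₁ hl' hsp hs hs2 hts ht1
      obtain ⟨h, hh, L, hξL, hLfix⟩ := commute_regular G4 hf hn' hY₁ hreg hξG hξt.symm
      have ax := axioms (F := K) G4 hf
      have hacts : RootBN.Data.Acts (data G4 K) ξ ((data G4 K).wl L) := by
        rw [hξL]; exact RootBN.Data.acts_mul_nw ax hh L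
      have hpow : ∀ m : ℕ, RootBN.Data.Acts (data G4 K) (ξ ^ m) ((data G4 K).wl L ^ m) := by
        intro m
        induction m with
        | zero => rw [pow_zero, pow_zero]; exact RootBN.Data.acts_one
        | succ m ih => rw [pow_succ, pow_succ]; exact RootBN.Data.Acts.mul ih hacts
      have hLr : w K L ^ r = 1 := RootBN.Data.acts_unique ax (hpow r) (hξr ▸ RootBN.Data.acts_one)
      have hL1 : w K L = 1 := by
        by_contra hne1
        have hr23 : r = 2 ∨ r = 3 := by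
          have h2 := hr.two_le
          have h4 : r ≠ 4 := fun h => absurd (h ▸ hr : Nat.Prime 4) (by norm_num)
          omega
        obtain ⟨s₀, hs₀⟩ := exists_root L hr23 hLr hne1
        have h0 := hs₀ _ (add'_av hY₁)
        have hfix : ∀ (m : ℕ) i, av hY₁ ((w K L ^ m) i) = av hY₁ i := by
          intro m
          induction m with
          | zero => simp
          | succ m ih =>
            intro i
            rw [pow_succ, Equiv.Perm.mul_apply, ih]
            exact Additive.toMul.injective (Units.ext (hLfix i))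
        simp only [hfix, Finset.sum_const, Finset.card_range] at h0
        have h0' : av hY₁ s₀ = 0 := by
          refine AddMonoid.addOrderOf_eq_one_iff.1 (Nat.eq_one_of_dvd_coprimes
            ((Nat.coprime_primes hr hs).2 hrs) (addOrderOf_dvd_of_nsmul_eq_zero h0)
            (addOrderOf_dvd_of_nsmul_eq_zero (smul_av hY₁ s hts s₀)))
        exact hreg s₀ (by rw [← av_eq hY₁ s₀, h0']; rfl)
      rw [← hξ, hξL]
      refine mul_mem hh (RootBN.Data.mem_H_of_pos_preserving ax (RootBN.Data.nw_mem_N L)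
        (RootBN.Data.acts_nw ax L) fun i hi => ?_)
      rw [show (data G4 K).wl L = 1 from hL1]
      exact hi
  -- conclusion
  have hgx1 : g⁻¹ * emb x * g ≠ 1 := hconj1 hX1
  have hgxr : (g⁻¹ * emb x * g) ^ r = 1 := by rw [hconj, hX]; group
  have hr2 : r ≠ 2 := by
    rintro rfl
    refine hgx1 (diagonal_ext G4 hgx (one_mem _) fun i => ?_)
    have h2 : chi (g⁻¹ * emb x * g) i ^ 2 = 1 := by rw [← chi_pow G4 hgx, hgxr, chi_one]
    have : CharP K 2 := charP_of_injective_ringHom ι.injective 2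
    rw [chi_one]
    exact frobenius_inj K 2 (by simpa [frobenius_def] using h2)
  obtain ⟨l, hl⟩ := hrel hg
  refine ⟨hr2, compat_of_ann (K := K) (l := l) hr2 hs2 fun c hc => ⟨?_, ?_⟩⟩
  · exact pev_eq_zero hgx (hl x hgx) hc hr hgxr hgx1
  · exact pev_eq_zero hgy (hl y hgy) hc hs (by rw [hconj, hY]; group) (hconj1 hY1)

end Cfsg.Agent.PrimeGraphF4
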