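import Cfsg.Agent.Lib.LangSteinberg.SylowF4
import Cfsg.Agent.Lib.LangSteinberg.TorusRoots

/-!
# Elements of order `rs` in twisted tori of type F4
-/

set_option autoImplicit false
set_option maxRecDepth 100000

namespace Cfsg.Agent.PrimeGraphF4

open Cfsg.Lie Cfsg.Agent.LangSteinberg Cfsg.Agent.Chev.BNSetup

local notation "G4" => Cfsg.Agent.Chev.F4.good

/-- A torus with an eigenvalue of order 1. -/
def torA1 : DTorus where
  word := [2, 1, 2, 1, 0]
  img := [10, 35, 22, 32]
  J := [3]
  cyc := Cyclo.cert1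
  P := [[[0], [0], [0], [1]]]

theorem torA1_checked : torA1.Checked chevF4 cdF4 where
  word_lt := by decide +kernel
  cyc_valid := by decide +kernel
  deg_pos := by decide +kernel
  J_lt := by decide +kernel
  dual := by decide +kernel
  img_eq := by decide +kernel
  shift := by decide +kernel

/-- A torus with an eigenvalue of order 2. -/
def torA2 : DTorus where
  word := [2, 1, 2, 1, 0]
  img := [10, 35, 22, 32]
  J := [1]
  cyc := Cyclo.cert2
  P := [[[0], [1], [-2], [1]]]

theorem torA2_checked : torA2.Checked chevF4 cdF4 where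
  word_lt := by decide +kernel
  cyc_valid := by decide +kernel
  deg_pos := by decide +kernel
  J_lt := by decide +kernel
  dual := by decide +kernel
  img_eq := by decide +kernel
  shift := by decide +kernel

/-- A torus with an eigenvalue of order 4. -/
def torA4 : DTorus where
  word := [2, 1, 2, 1, 0]
  img := [10, 35, 22, 32]
  J := [1]
  cyc := Cyclo.cert4
  P := [[[-1, 1], [1, 0], [0, 0], [-1, -1]]]

theorem torA4_checked : torA4.Checked chevF4 cdF4 where
  word_lt := by decide +kernel
  cyc_valid := by decide +kernel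
  deg_pos := by decide +kernel
  J_lt := by decide +kernel
  dual := by decide +kernel
  img_eq := by decide +kernel
  shift := by decide +kernel

/-- A torus with an eigenvalue of order 1. -/
def torB1 : DTorus where
  word := [3, 2, 0]
  img := [14, 36, 21, 25]
  J := [1]
  cyc := Cyclo.cert1
  P := [[[0], [1], [0], [0]]]

theorem torB1_checked : torB1.Checked chevF4 cdF4 where
  word_lt := by decide +kernel
  cyc_valid := by decide +kernel
  deg_pos := by decide +kernel
  J_lt := by decide +kernel
  dual := by decide +kernel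
  img_eq := by decide +kernel
  shift := by decide +kernel

/-- A torus with an eigenvalue of order 2. -/
def torB2 : DTorus where
  word := [3, 2, 0]
  img := [14, 36, 21, 25]
  J := [1]
  cyc := Cyclo.cert2
  P := [[[-2], [1], [0], [0]]]

theorem torB2_checked : torB2.Checked chevF4 cdF4 where
  word_lt := by decide +kernel
  cyc_valid := by decide +kernel
  deg_pos := by decide +kernel
  J_lt := by decide +kernel
  dual := by decide +kernel
  img_eq := by decide +kernel
  shift := by decide +kernel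

/-- A torus with an eigenvalue of order 3. -/
def torB3 : DTorus where
  word := [3, 2, 0]
  img := [14, 36, 21, 25]
  J := [1]
  cyc := Cyclo.cert3
  P := [[[0, 0], [1, 0], [-2, -1], [1, 2]]]

theorem torB3_checked : torB3.Checked chevF4 cdF4 where
  word_lt := by decide +kernel
  cyc_valid := by decide +kernel
  deg_pos := by decide +kernel
  J_lt := by decide +kernel
  dual := by decide +kernel
  img_eq := by decide +kernel
  shift := by decide +kernel

/-- A torus with an eigenvalue of order 1. -/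
def torC1 : DTorus where
  word := [2, 1, 0]
  img := [12, 33, 30, 26]
  J := [3]
  cyc := Cyclo.cert1
  P := [[[0], [0], [0], [1]]]

theorem torC1_checked : torC1.Checked chevF4 cdF4 where
  word_lt := by decide +kernel
  cyc_valid := by decide +kernel
  deg_pos := by decide +kernel
  J_lt := by decide +kernel
  dual := by decide +kernel
  img_eq := by decide +kernel
  shift := by decide +kernel

/-- A torus with an eigenvalue of order 2. -/
def torC2 : DTorus where
  word := [2, 1, 0]
  img := [12, 33, 30, 26]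
  J := [3]
  cyc := Cyclo.cert2
  P := [[[-2], [2], [-2], [1]]]

theorem torC2_checked : torC2.Checked chevF4 cdF4 where
  word_lt := by decide +kernel
  cyc_valid := by decide +kernel
  deg_pos := by decide +kernel
  J_lt := by decide +kernel
  dual := by decide +kernel
  img_eq := by decide +kernel
  shift := by decide +kernel

/-- A torus with an eigenvalue of order 6. -/
def torC6 : DTorus where
  word := [2, 1, 0]
  img := [12, 33, 30, 26]
  J := [0]
  cyc := Cyclo.cert6
  P := [[[1, 0], [1, -1], [-2, 0], [0, 2]]]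

theorem torC6_checked : torC6.Checked chevF4 cdF4 where
  word_lt := by decide +kernel
  cyc_valid := by decide +kernel
  deg_pos := by decide +kernel
  J_lt := by decide +kernel
  dual := by decide +kernel
  img_eq := by decide +kernel
  shift := by decide +kernel

/-- A torus with an eigenvalue of order 3. -/
def torF33 : DTorus where
  word := [3, 2]
  img := [33, 29, 21, 25]
  J := [1]
  cyc := Cyclo.cert3
  P := [[[0, 0], [1, 0], [-2, -1], [1, 2]]]

theorem torF33_checked : torF33.Checked chevF4 cdF4 where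
  word_lt := by decide +kernel
  cyc_valid := by decide +kernel
  deg_pos := by decide +kernel
  J_lt := by decide +kernel
  dual := by decide +kernel
  img_eq := by decide +kernel
  shift := by decide +kernel

/-- A torus with an eigenvalue of order 1. -/
def torE1 : DTorus where
  word := []
  img := [33, 27, 25, 24]
  J := [0]
  cyc := Cyclo.cert1
  P := [[[1], [0], [0], [0]]]

theorem torE1_checked : torE1.Checked chevF4 cdF4 where
  word_lt := by decide +kernel
  cyc_valid := by decide +kernel
  deg_pos := by decide +kernel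
  J_lt := by decide +kernel
  dual := by decide +kernel
  img_eq := by decide +kernel
  shift := by decide +kernel

/-- The tori with a common word covering two exponents. -/
def pairTori : List DTorus := [torA1, torA2, torA4, torB1, torB2, torB3, torC1, torC2, torC6]

/-- The tori of a Weyl element fixing a root, with the root. -/
def fixTori : List (DTorus × ℕ) := [(torE1, 27), (torA2, 0), (torF33, 3), (torA4, 0), (torC6, 0)]

theorem pairTori_checked : ∀ T ∈ pairTori, DTorus.Checked T chevF4 cdF4 := by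
  simp only [pairTori, List.mem_cons, List.not_mem_nil, or_false]
  rintro T (rfl | rfl | rfl | rfl | rfl | rfl | rfl | rfl | rfl)
  exacts [torA1_checked, torA2_checked, torA4_checked, torB1_checked, torB2_checked, torB3_checked,
    torC1_checked, torC2_checked, torC6_checked]

theorem fixTori_checked : ∀ Tα ∈ fixTori, DTorus.Checked Tα.1 chevF4 cdF4 := by
  simp only [fixTori, List.mem_cons, List.not_mem_nil, or_false]
  rintro Tα (rfl | rfl | rfl | rfl | rfl)
  exacts [torE1_checked, torA2_checked, torF33_checked, torA4_checked, torC6_checked]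

theorem fixTori_root : ∀ Tα ∈ fixTori, Tα.2 < chevF4.nroots ∧ Tα.1.perm chevF4 Tα.2 = Tα.2 ∧
    (Tα.1.cyc.d = 1 → (List.range 4).all (fun j => decide (cdF4 Tα.2 j * Tα.1.coef 0 j 0 = 0)) = true) := by
  decide +kernel

/-- Divisibility of the cyclotomic value. -/
theorem dvd_peval {T : DTorus} (hT : T.cyc.Valid) {q r : ℕ} (hq : 1 ≤ q) [Fact r.Prime]
    (hd : orderOf (q : ZMod r) = T.cyc.d) : (r : ℤ) ∣ Cyclo.peval (T.cyc.G ++ [1]) (q : ℤ) := by
  have key : ∀ e, r ∣ q ^ e - 1 ↔ T.cyc.d ∣ e := fun e => by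
    rw [← hd, orderOf_dvd_iff_pow_eq_one, ← ZMod.natCast_eq_zero_iff, Nat.cast_sub (Nat.one_le_pow _ _ hq),
      Nat.cast_pow, Nat.cast_one, sub_eq_zero]
  have h := Cyclo.Cert.dvd_eval hT hq (Fact.out : r.Prime) (v := 1)
    (fun e he hlt h => absurd (Nat.le_of_dvd he ((key e).1 h)) (not_le.2 hlt))
    (by rw [pow_one]; exact (key _).2 dvd_rfl)
  rwa [pow_one] at h

/-- The word of a table. -/
def wordOf (T : DTorus) (hT : T.Checked chevF4 cdF4) : List (Fin chevF4.rank) :=
  T.word.attach.map fun i => ⟨i.1, hT.word_lt i.1 i.2⟩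

/-- A fixed torus element of prime order with the values of the first functional. -/
theorem exists_fixed {T : DTorus} (hT : T.Checked chevF4 cdF4) (hJ : 0 < T.J.length) {k : Type*} [Field k]
    [IsAlgClosed k] (σ : k →+* k) {q s : ℕ} (hσ : ∀ c, σ c = c ^ q) [Fact s.Prime] (hsk : (s : k) ≠ 0)
    (hdvd : (s : ℤ) ∣ Cyclo.peval (T.cyc.G ++ [1]) (q : ℤ)) :
    ∃ t ∈ chevF4.diagonalSubgroup k,
      (data G4 k).nw (wordOf T hT) * entryMap chevF4 σ t = t * (data G4 k).nw (wordOf T hT) ∧
      t ^ s = 1 ∧ t ≠ 1 ∧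
      (∀ r : Fin chevF4.nroots, chi t ((data G4 k).wl (wordOf T hT) r) = chi t r ^ q) ∧
      ∀ α : Fin chevF4.nroots, (∀ j < 4, cdF4 α.val j * T.coef 0 j 0 = 0) → T.cyc.G.length = 1 → chi t α = 1 := by
  have hs : s.Prime := Fact.out
  have : NeZero (s : k) := ⟨hsk⟩
  obtain ⟨ζ₀, hζ₀⟩ := HasEnoughRootsOfUnity.exists_primitiveRoot k s
  let ζ : kˣ := Units.mk0 ζ₀ (hζ₀.ne_zero hs.ne_zero)
  have hζ : IsPrimitiveRoot ζ s := IsPrimitiveRoot.coe_units_iff.1 (by simpa [ζ] using hζ₀)
  let ψ : AddChar (ZMod s) kˣ := AddChar.zmodChar s hζ.pow_eq_one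
  have hψinj : ∀ z : ZMod s, ψ z = 1 → z = 0 := fun z hz => by
    rw [AddChar.zmodChar_apply] at hz
    exact (ZMod.val_eq_zero z).1 (Nat.eq_zero_of_dvd_of_lt ((hζ.pow_eq_one_iff_dvd _).1 hz) (ZMod.val_lt z))
  obtain ⟨t, ht, hts⟩ := exists_chi_simple (F := k) G4 denF4
    (fun a ha b hb => by simpa [TorusData.list_range_sum_eq] using denF4_left a ha b hb)
    (fun j => ψ (T.value s q 0 j.val))
  let Ε : ℕ → ZMod s := fun r => ∑ j ∈ Finset.range chevF4.rank, (cdF4 r j : ZMod s) * T.value s q 0 j
  have hchi : ∀ r : Fin chevF4.nroots, chi t r = (ψ (Ε r.val) : k) := fun r => by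
    rw [chi_eq_zprod G4 cdF4 (fun i hi r hr => coordsF4.sum_eq hi hr) ht r]
    simp only [hts, ← Units.val_zpow_eq_zpow_val, ← Units.coe_prod, ← AddChar.map_zsmul_eq_zpow, zsmul_eq_mul]
    rw [Fin.prod_univ_eq_prod_range (fun j => ψ ((cdF4 r.val j : ZMod s) * T.value s q 0 j))]
    refine congrArg Units.val ?_
    simp only [Ε]
    induction Finset.range chevF4.rank using Finset.induction_on with
    | empty => simp
    | insert j u hj ih => rw [Finset.prod_insert hj, Finset.sum_insert hj, AddChar.map_add_eq_mul, ih]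
  have hperm : ∀ r : Fin chevF4.nroots,
      ((data G4 k).wl (wordOf T hT) r).val = T.perm chevF4 r.val := by
    intro r
    have key : ∀ L : List (Fin chevF4.rank),
        ((data G4 k).wl L r).val = (L.map Fin.val).foldr (fun i x => chevF4.reflectRoot i x) r.val := by
      intro L
      induction L with
      | nil => rfl
      | cons i L ih => rw [RootBN.Data.wl_cons, Equiv.Perm.mul_apply, data_refl, ih, List.map_cons, List.foldr_cons]
    rw [key, DTorus.perm]
    congr 1
    simp [wordOf]
  obtain ⟨M, hM⟩ := coordsF4.wl_linear Cfsg.Agent.Chev.F4.good (F := k) (wordOf T hT)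
  have hMs : ∀ i < chevF4.rank, ∀ j < chevF4.rank, M i j = cdF4 (T.perm chevF4 (chevF4.simple i)) j := by
    intro i hi j hj
    rw [← hperm ⟨chevF4.simple i, Cfsg.Agent.Chev.F4.good.simple_lt hi⟩, hM _ j hj, Finset.sum_eq_single i]
    · rw [coordsF4.simple_eq i hi i hi, if_pos rfl, one_mul]
    · intro i' hi' hne
      rw [coordsF4.simple_eq i hi i' (Finset.mem_range.1 hi'), if_neg (Ne.symm hne), zero_mul]
    · intro h; exact absurd (Finset.mem_range.2 hi) h
  have hshift : ∀ r : Fin chevF4.nroots, Ε ((data G4 k).wl (wordOf T hT) r).val = (q : ZMod s) * Ε r.val := by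
    intro r
    simp only [Ε]
    rw [Finset.sum_congr rfl fun j hj => show (cdF4 ((data G4 k).wl (wordOf T hT) r).val j : ZMod s) *
        T.value s q 0 j = ∑ i ∈ Finset.range chevF4.rank, (cdF4 r.val i : ZMod s) * ((M i j : ZMod s) * T.value s q 0 j)
      by
        rw [hM r j (Finset.mem_range.1 hj), Int.cast_sum, Finset.sum_mul]
        exact Finset.sum_congr rfl fun i _ => by push_cast; ring, Finset.sum_comm, Finset.mul_sum]
    refine Finset.sum_congr rfl fun i hi => ?_
    rw [← Finset.mul_sum, mul_left_comm]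
    congr 1
    have hi' := Finset.mem_range.1 hi
    rw [← DTorus.sum_value_perm hT hdvd hJ hi']
    exact Finset.sum_congr rfl fun j hj => by rw [hMs i hi' j (Finset.mem_range.1 hj)]
  have hq' : ∀ r : Fin chevF4.nroots, chi t ((data G4 k).wl (wordOf T hT) r) = chi t r ^ q := fun r => by
    rw [hchi, hchi, hshift, ← nsmul_eq_mul, AddChar.map_nsmul_eq_pow, Units.val_pow_eq_pow_val]
  have hσT : entryMap chevF4 σ t ∈ chevF4.diagonalSubgroup k := by
    obtain ⟨τ, hτ⟩ := exists_torElt G4 ht
    rw [hτ, torElt, map_list_prod, List.map_map]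
    refine list_prod_mem fun y hy => ?_
    obtain ⟨i, hi, rfl⟩ := List.mem_map.1 hy
    show entryMap chevF4 σ (he G4 (chevF4.simple i) (τ i : k)) ∈ _
    rw [entryMap_he G4]
    exact he_mem_H G4 (Cfsg.Agent.Chev.F4.good.simple_lt (List.mem_range.1 hi))
      ((map_ne_zero σ).2 (τ i).ne_zero)
  have ax := axioms (F := k) G4 facts_chevF4
  refine ⟨t, ht, ?_, diagonal_ext G4 (pow_mem ht s) (one_mem _) fun r => ?_, fun h1 => ?_, hq', fun α hα hf => ?_⟩
  · refine eq_mul_of_mul_inv_eq (diagonal_ext G4 (RootBN.Data.nw_H ax _ hσT) ht fun r' => ?_)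
    obtain ⟨r, rfl⟩ := ((data G4 k).wl (wordOf T hT)).surjective r'
    rw [chi_nw_conj G4 facts_chevF4 _ hσT r, hq']
    exact hσ _
  · rw [chi_pow G4 ht, chi_one, hchi, ← Units.val_pow_eq_pow_val, ← AddChar.map_nsmul_eq_pow, nsmul_eq_mul,
      ZMod.natCast_self, zero_mul, AddChar.map_zero_eq_one, Units.val_one]
  · have hJ' := hT.J_lt 0 hJ
    have h2 := hts ⟨T.J.getD 0 0, hJ'⟩
    rw [h1, chi_one, DTorus.value_dual hT hJ hJ, if_pos rfl] at h2
    exact one_ne_zero (hψinj 1 (Units.ext h2.symm))
  · rw [hchi]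
    have : Ε α.val = 0 := Finset.sum_eq_zero fun j hj => by
      rw [DTorus.value, hf, Finset.sum_range_one, pow_zero, mul_one, ← Int.cast_mul, hα j (Finset.mem_range.1 hj),
        Int.cast_zero]
    rw [this, AddChar.map_zero_eq_one, Units.val_one]

/-- An element of the group over `F` of the order of a fixed twisted element. -/
theorem exists_descend {F : Type*} [Field F] [Fintype F] {k : Type*} [Field k] (ι : F →+* k) (σ : k ≃+* k)
    (hσ : ∀ c, σ c = c ^ Fintype.card F) {z : GL chevF4.Idx k} (hz : z ∈ chevF4.group k)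
    (hfix : entryMap chevF4 (σ : k →+* k) z = z) {m : ℕ} (hm : orderOf z = m) :
    ∃ x : ↥(chevF4.group F), orderOf x = m := by
  obtain ⟨x, hx, rfl⟩ := mem_image_of_coprime G4 σ facts_chevF4 ι hσ 1 denF4
    (fun i hi j hj => (TorusData.list_range_sum_eq _ _).symm.trans (denF4_right i hi j hj)) hz hfix
    (m := m) (by rw [← hm, pow_orderOf_eq_one]) (Nat.coprime_one_left m)
  refine ⟨⟨x, hx⟩, ?_⟩
  rw [← hm, ← orderOf_injective (chevF4.group F).subtype Subtype.val_injective ⟨x, hx⟩,
    ← orderOf_injective (entryMap chevF4 ι) (entryMap_injective ι) _]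
  rfl

/-- Two commuting fixed elements in one twisted torus give an element of order `rs`. -/
theorem exists_order {F : Type*} [Field F] [Fintype F] {n : ℕ} (hn : 1 ≤ n) (hF : Fintype.card F = 2 ^ n)
    {r s : ℕ} (hr : r.Prime) (hs : s.Prime) (hrs : r ≠ s) (hs2 : s ≠ 2)
    (h : (r = 2 ∧ ∃ Tα ∈ fixTori, Tα.1.cyc.d = orderOf ((Fintype.card F : ℕ) : ZMod s)) ∨
      (r ≠ 2 ∧ ∃ T ∈ pairTori, ∃ T' ∈ pairTori, T.word = T'.word ∧
        T.cyc.d = orderOf ((Fintype.card F : ℕ) : ZMod r) ∧
        T'.cyc.d = orderOf ((Fintype.card F : ℕ) : ZMod s))) :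
    ∃ x : ↥(chevF4.group F), orderOf x = r * s := by
  classical
  have := Fact.mk hr
  have := Fact.mk hs
  obtain ⟨p, hp⟩ := CharP.exists F
  obtain ⟨⟨a, ha⟩, hpp, hc⟩ := FiniteField.card F p
  simp only [PNat.mk_coe] at hc
  have hpq : p ∣ 2 ^ n := by rw [← hF, hc]; exact dvd_pow_self p ha.ne'
  have hp2 : p = 2 := (Nat.prime_dvd_prime_iff_eq hpp Nat.prime_two).1 (hpp.dvd_of_dvd_pow hpq)
  subst hp2
  have := Fact.mk hpp
  let k := AlgebraicClosure F
  let ι := algebraMap F k
  have hkp : CharP k 2 := charP_of_injective_ringHom ι.injective 2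
  have : ExpChar k 2 := .prime hpp
  let σ : k ≃+* k := iterateFrobeniusEquiv k 2 a
  have hσ : ∀ t, σ t = t ^ 2 ^ a := fun t => iterateFrobeniusEquiv_def ..
  have hσq : ∀ t, σ t = t ^ Fintype.card F := fun t => by rw [hσ, hc]
  have hne : ∀ {m : ℕ}, m.Prime → m ≠ 2 → (m : k) ≠ 0 := fun {m} hm hm2 h0 =>
    hm2 ((Nat.prime_dvd_prime_iff_eq Nat.prime_two hm).1 ((CharP.cast_eq_zero_iff k 2 m).1 h0)).symm
  have ax := axioms (F := k) G4 facts_chevF4
  have hHG : chevF4.diagonalSubgroup k ≤ chevF4.group k := by rw [← data_grp G4]; exact ax.H_le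
  have hnwG : ∀ l, (data G4 k).nw l ∈ chevF4.group k := fun l => by
    rw [← data_grp G4]
    refine list_prod_mem fun y hy => ?_
    obtain ⟨i, -, rfl⟩ := List.mem_map.1 hy
    exact ax.nn_mem i
  -- conjugating fixed elements down
  have hdesc : ∀ (l : List (Fin chevF4.rank)) (A B : GL chevF4.Idx k), A ∈ chevF4.group k → B ∈ chevF4.group k →
      orderOf A = r → orderOf B = s → Commute A B →
      (data G4 k).nw l * entryMap chevF4 (σ : k →+* k) A = A * (data G4 k).nw l →
      (data G4 k).nw l * entryMap chevF4 (σ : k →+* k) B = B * (data G4 k).nw l →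
      ∃ x : ↥(chevF4.group F), orderOf x = r * s := by
    intro l A B hA hB hAr hBs hAB hnA hnB
    obtain ⟨g, hg, hgn⟩ := exists_lang (a := a) G4 (σ : k →+* k) ha.ne' hσ (hnwG l)
    rw [inv_mul_eq_iff_eq_mul] at hgn
    refine exists_descend ι σ hσq (z := g * (A * B) * g⁻¹) (mul_mem (mul_mem hg (mul_mem hA hB)) (inv_mem hg)) ?_ ?_
    · rw [map_mul, map_mul, map_mul, map_inv, hgn, mul_inv_rev]
      calc g * (data G4 k).nw l * (entryMap chevF4 (σ : k →+* k) A * entryMap chevF4 (σ : k →+* k) B) *
            (((data G4 k).nw l)⁻¹ * g⁻¹)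
          = g * ((data G4 k).nw l * entryMap chevF4 (σ : k →+* k) A) * ((data G4 k).nw l)⁻¹ *
            ((data G4 k).nw l * entryMap chevF4 (σ : k →+* k) B) * ((data G4 k).nw l)⁻¹ * g⁻¹ := by group
        _ = g * (A * B) * g⁻¹ := by rw [hnA, hnB]; group
    · rw [← MulAut.conj_apply, MulEquiv.orderOf_eq, hAB.orderOf_mul_eq_mul_orderOf_of_coprime, hAr, hBs]
      rw [hAr, hBs]; exact (Nat.coprime_primes hr hs).2 hrs
  have hq1 : 1 ≤ Fintype.card F := Fintype.card_pos
  have hord : ∀ {t : GL chevF4.Idx k} {m : ℕ}, m.Prime → t ^ m = 1 → t ≠ 1 → orderOf t = m :=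
    fun hm h1 h2 => have := Fact.mk hm; orderOf_eq_prime h1 h2
  rcases h with ⟨rfl, Tα, hTα, hd⟩ | ⟨hr2, T, hT, T', hT', hw, hd, hd'⟩
  · have hT := fixTori_checked Tα hTα
    have hJ : 0 < Tα.1.J.length := (by decide : ∀ Tα ∈ fixTori, 0 < Tα.1.J.length) Tα hTα
    obtain ⟨t, ht, hnt, hts, ht1, hq', hα⟩ := exists_fixed hT hJ (σ : k →+* k) hσq
      (hne hs hs2) (dvd_peval hT.cyc_valid hq1 hd.symm)
    obtain ⟨hαn, hperm, hcoef⟩ := fixTori_root Tα hTα
    let α : Fin chevF4.nroots := ⟨Tα.2, hαn⟩
    have hwl : (data G4 k).wl (wordOf Tα.1 hT) α = α := by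
      refine Fin.ext ?_
      have key : ∀ L : List (Fin chevF4.rank),
          ((data G4 k).wl L α).val = (L.map Fin.val).foldr (fun i x => chevF4.reflectRoot i x) α.val := by
        intro L
        induction L with
        | nil => rfl
        | cons i L ih => rw [RootBN.Data.wl_cons, Equiv.Perm.mul_apply, data_refl, ih, List.map_cons, List.foldr_cons]
      rw [key]
      refine Eq.trans ?_ hperm
      rw [DTorus.perm]
      congr 1
      simp [wordOf]
    have hchi : chi t α = 1 := by
      by_cases hd1 : Tα.1.cyc.d = 1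
      · refine hα α (fun j hj => ?_) ((by decide : ∀ Tα ∈ fixTori, Tα.1.cyc.d = 1 → Tα.1.cyc.G.length = 1) Tα hTα hd1)
        exact of_decide_eq_true (List.all_eq_true.1 (hcoef hd1) j (List.mem_range.2 hj))
      · have h1 := hq' α
        rw [hwl] at h1
        have h2 : chi t α ^ (Fintype.card F - 1) = 1 := by
          refine mul_right_cancel₀ (chi_ne_zero G4 ht α) ?_
          rw [← pow_succ, Nat.sub_add_cancel hq1, one_mul, ← h1]
        have h3 : chi t α ^ s = 1 := by rw [← chi_pow G4 ht, hts, chi_one]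
        have hcop : Nat.Coprime s (Fintype.card F - 1) := by
          refine (Nat.Prime.coprime_iff_not_dvd hs).2 fun hdvd => hd1 ?_
          rw [hd, orderOf_eq_one_iff]
          rw [← ZMod.natCast_eq_zero_iff, Nat.cast_sub hq1, sub_eq_zero, Nat.cast_one] at hdvd
          exact hdvd
        simpa [hcop.gcd_eq_one] using pow_gcd_eq_one.2 ⟨h3, h2⟩
    have hxG : xe G4 α.val (1 : k) ∈ chevF4.group k := xe_mem_group G4 α.2 1
    have hxne : xe G4 α.val (1 : k) ≠ 1 := fun h =>
      one_ne_zero (xe_inj G4 facts_chevF4 α.2 (h.trans (xe_zero G4 α.2).symm))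
    have htwo : (1 : k) + 1 = 0 := CharTwo.add_self_eq_zero 1
    refine hdesc (wordOf Tα.1 hT) _ t hxG (hHG ht) (hord Nat.prime_two ?_ hxne) (hord hs hts ht1) ?_ ?_ hnt
    · rw [pow_two, xe_add G4 α.2, htwo, xe_zero G4 α.2]
    · have h := conj_xe G4 ht α 1
      rw [hchi, one_mul, mul_inv_eq_iff_eq_mul] at h
      exact h.symm
    · rw [entryMap_xe G4, map_one]
      obtain ⟨e, he, hl⟩ := Cfsg.Agent.LangSteinberg.nw_conj_xe G4 (F := k) (wordOf Tα.1 hT) α
      have he1 : e = 1 := by
        have h4 : (e - 1) * (e - 1) = 0 := by linear_combination he - (e - 1) * htwo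
        exact sub_eq_zero.1 (mul_self_eq_zero.1 h4)
      have h := hl 1
      rw [hwl, he1, one_mul, mul_inv_eq_iff_eq_mul] at h
      exact h
  · have hTc := pairTori_checked T hT
    have hTc' := pairTori_checked T' hT'
    have hJ : ∀ T ∈ pairTori, 0 < T.J.length := by decide
    obtain ⟨t, ht, hnt, hts, ht1, -, -⟩ := exists_fixed hTc (hJ T hT) (σ : k →+* k) hσq (hne hr hr2)
      (dvd_peval hTc.cyc_valid hq1 hd.symm)
    obtain ⟨t', ht', hnt', hts', ht1', -, -⟩ := exists_fixed hTc' (hJ T' hT') (σ : k →+* k) hσq (hne hs hs2)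
      (dvd_peval hTc'.cyc_valid hq1 hd'.symm)
    have hwords : wordOf T' hTc' = wordOf T hTc := by
      refine List.map_injective_iff.2 Fin.val_injective ?_
      simp [wordOf, hw]
    rw [hwords] at hnt'
    exact hdesc (wordOf T hTc) t t' (hHG ht) (hHG ht') (hord hr hts ht1) (hord hs hts' ht1')
      (diagonal_ext G4 (mul_mem ht ht') (mul_mem ht' ht) fun r => by
        rw [chi_mul G4 ht ht', chi_mul G4 ht' ht, mul_comm]) hnt hnt'

end Cfsg.Agent.PrimeGraphF4
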