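import Cfsg.Agent.Lib.Chev.CheckB2
import Cfsg.Agent.Lib.Chev.BNFacts
import Cfsg.Agent.Lib.LangSteinberg.SylowMain
import Cfsg.Agent.Lib.LangSteinberg.CycloTables

/-!
# Homocyclic tori of type B2: tables
-/

set_option autoImplicit false
set_option maxRecDepth 100000
set_option maxHeartbeats 4000000

namespace Cfsg.Agent.LangSteinberg

open Cfsg.Lie

/-- Coordinates of the roots. -/
def cdB2 : ℕ → ℕ → ℤ := coordFun [[118, 119, 135, 120, 152, 137, 153, 154]]

theorem coordsB2 : Coords chevB2 cdB2 where
  cartan_eq := by decide +kernel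
  refl_eq := by decide +kernel
  simple_eq := by decide +kernel

/-- `2` times the inverse Cartan matrix. -/
def denB2 (i j : ℕ) : ℤ := (([[2, 2], [1, 2]] : List (List ℤ)).getD i []).getD j 0

theorem denB2_right : ∀ i < chevB2.rank, ∀ j < chevB2.rank,
    ((List.range chevB2.rank).map fun s => chevB2.cartan i (chevB2.simple s) * denB2 s j).sum =
      if i = j then ((2 : ℕ) : ℤ) else 0 := by decide +kernel

theorem denB2_left : ∀ j < chevB2.rank, ∀ i < chevB2.rank,
    ((List.range chevB2.rank).map fun s => denB2 j s * chevB2.cartan s (chevB2.simple i)).sum =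
      if j = i then ((2 : ℕ) : ℤ) else 0 := by decide +kernel

/-- The torus of type 1. -/
def torB2d1 : DTorus where
  word := []
  img := [5, 4]
  J := [0, 1]
  cyc := Cyclo.cert1
  P := [[[1], [0]], [[0], [1]]]

theorem torB2d1_checked : torB2d1.Checked chevB2 cdB2 where
  word_lt := by decide +kernel
  cyc_valid := by decide +kernel
  deg_pos := by decide +kernel
  J_lt := by decide +kernel
  dual := by decide +kernel
  img_eq := by decide +kernel
  shift := by decide +kernel

/-- The torus of type 2. -/
def torB2d2 : DTorus where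
  word := [1, 0, 1, 0]
  img := [2, 3]
  J := [0, 1]
  cyc := Cyclo.cert2
  P := [[[1], [0]], [[0], [1]]]

theorem torB2d2_checked : torB2d2.Checked chevB2 cdB2 where
  word_lt := by decide +kernel
  cyc_valid := by decide +kernel
  deg_pos := by decide +kernel
  J_lt := by decide +kernel
  dual := by decide +kernel
  img_eq := by decide +kernel
  shift := by decide +kernel

/-- The torus of type 4. -/
def torB2d4 : DTorus where
  word := [0, 1]
  img := [6, 0]
  J := [0]
  cyc := Cyclo.cert4
  P := [[[1, 0], [-1, 1]]]

theorem torB2d4_checked : torB2d4.Checked chevB2 cdB2 where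
  word_lt := by decide +kernel
  cyc_valid := by decide +kernel
  deg_pos := by decide +kernel
  J_lt := by decide +kernel
  dual := by decide +kernel
  img_eq := by decide +kernel
  shift := by decide +kernel

theorem toriB2_checked : ∀ T ∈ [torB2d1, torB2d2, torB2d4], DTorus.Checked T chevB2 cdB2 := by
  simp only [List.mem_cons, List.not_mem_nil, or_false]
  rintro T (rfl | rfl | rfl)
  · exact torB2d1_checked
  · exact torB2d2_checked
  · exact torB2d4_checked

theorem coverB2 : ∀ d < 31, 0 < (([2, 4] : List ℕ).filter fun x => d ∣ x).length →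
    ∃ T ∈ [torB2d1, torB2d2, torB2d4], T.cyc.d = d ∧
      T.J.length = (([2, 4] : List ℕ).filter fun x => d ∣ x).length := by decide +kernel

/-- The Sylow subgroups of type B2. -/
theorem sylowB2 {F : Type*} [Field F] [Fintype F] {q r : ℕ} [Fact r.Prime] (hq : Fintype.card F = q)
    (hrq : ¬ r ∣ q) (hrW : ¬ r ∣ ([2, 4] : List ℕ).prod) {g N : ℕ} (hg : ¬ r ∣ g)
    (hcard : g * Nat.card ↥(chevB2.group F) = q ^ N * (([2, 4] : List ℕ).map fun x => q ^ x - 1).prod)
    (P : Sylow r ↥(chevB2.group F)) :
    Nonempty (↥(P : Subgroup ↥(chevB2.group F)) ≃*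
      (Fin (([2, 4] : List ℕ).filter (fun x => orderOf (q : ZMod r) ∣ x)).length →
        Multiplicative (ZMod (r ^ padicValNat r ((Polynomial.cyclotomic (orderOf (q : ZMod r)) ℤ).eval (q : ℤ)).natAbs)))) :=
  sylow_homocyclic Chev.B2.good Chev.BNSetup.facts_chevB2 coordsB2 (by decide) denB2 denB2_right denB2_left
    [2, 4] (by decide +kernel) (by decide +kernel) _ toriB2_checked coverB2 hq hrq hrW hg hcard P

end Cfsg.Agent.LangSteinberg
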