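import Cfsg.Agent.Lib.LangSteinberg.Fixed
import Cfsg.Agent.Lib.LangSteinberg.TorusChar
import Cfsg.Agent.Lib.LangSteinberg.TorusData

/-!
# Self-centralizing twisted tori of unimodular Chevalley groups
-/

set_option autoImplicit false

namespace Cfsg.Agent.LangSteinberg

open Cfsg.Lie Cfsg.Agent.Chev Cfsg.Agent.Chev.BNSetup TorusData

variable {D : ChevalleyDatum} (hG : Good D) {tabs simps : List ℕ} (hf : Facts D tabs simps) {T : TorusData}

theorem wperm_eq {F : Type*} [Field F] (hT : T.Checked D) :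
    ∃ l : List (Fin D.rank), ∀ r : Fin D.nroots, ((data hG F).wl l r).val = T.wperm D r.val := by
  refine ⟨T.word.attach.map fun i => ⟨i.1, hT.word_lt i.1 i.2⟩, fun r => ?_⟩
  have key : ∀ L : List (Fin D.rank),
      ((data hG F).wl L r).val = (L.map Fin.val).foldr (fun i x => D.reflectRoot i x) r.val := by
    intro L
    induction L with
    | nil => rfl
    | cons i L ih => rw [RootBN.Data.wl_cons, Equiv.Perm.mul_apply, data_refl, ih, List.map_cons, List.foldr_cons]
  rw [key, TorusData.wperm]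
  congr 1
  simp

include hG in
theorem wperm_bij (hT : T.Checked D) : (∀ s < D.nroots, T.wperm D s < D.nroots) ∧
    ∀ s < D.nroots, ∃ s' < D.nroots, T.wperm D s' = s := by
  obtain ⟨l, hl⟩ := wperm_eq (F := ℚ) hG hT
  refine ⟨fun s hs => by rw [← hl ⟨s, hs⟩]; exact Fin.is_lt _, fun s hs => ?_⟩
  obtain ⟨r, hr⟩ := ((data hG ℚ).wl l).surjective ⟨s, hs⟩
  exact ⟨r.val, r.2, by rw [← hl, hr]⟩

/-- The tables give the torus for every `q`: beyond the coefficients by size, below by enumeration. -/
theorem reg_rigid (hG : Good D) (hT : T.Checked D) {q b : ℕ}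
    (hb : ∀ s < D.nroots, ∀ j < D.rank, (T.ac s j).natAbs ≤ b)
    (hsmall : q ≤ b + 1 → (∀ s < D.nroots, ¬ T.size D q ∣ T.expo D q s) ∧ T.rigidCheck D q = true)
    (hlarge : b + 1 < q → (q : ℤ) ^ D.rank ≤ T.size D q) :
    (∀ s < D.nroots, ¬ T.size D q ∣ T.expo D q s) ∧ T.Rigid D q (T.size D q) := by
  obtain ⟨hw, hsurj⟩ := wperm_bij hG hT
  rcases Nat.lt_or_ge (b + 1) q with h | h
  · obtain ⟨h1, h2⟩ := large_q hT h hb (hlarge h)
    exact ⟨h1, rigid_of_unique hT hw hsurj h2⟩
  · exact ⟨(hsmall h).1, rigid_of_check hT hw (hsmall h).2⟩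

include hG in
theorem wl_linear {F : Type*} [Field F] (hT : T.Checked D) (l : List (Fin D.rank)) :
    ∃ M : ℕ → ℕ → ℤ, ∀ r : Fin D.nroots, ∀ k < D.rank,
      T.cd ((data hG F).wl l r).val k = ∑ i ∈ Finset.range D.rank, T.cd r.val i * M i k := by
  induction l with
  | nil =>
    refine ⟨fun i k => if i = k then 1 else 0, fun r k hk => ?_⟩
    simp [hk]
  | cons i l ih =>
    obtain ⟨M, hM⟩ := ih
    refine ⟨fun i' k => M i' k -
      if i.val = k then ∑ j ∈ Finset.range D.rank, M i' j * D.cartan i.val (D.simple j) else 0,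
      fun r k hk => ?_⟩
    rw [RootBN.Data.wl_cons, Equiv.Perm.mul_apply, data_refl, hT.refl_eq i.val i.2 _ ((data hG F).wl l r).2 k hk,
      hM r k hk, hT.cartan_eq i.val i.2 _ ((data hG F).wl l r).2, list_range_sum_eq]
    split_ifs with hik
    · have e : ∀ j ∈ Finset.range D.rank,
          T.cd ((data hG F).wl l r).val j * D.cartan i.val (D.simple j) =
            ∑ i' ∈ Finset.range D.rank, T.cd r.val i' * (M i' j * D.cartan i.val (D.simple j)) := fun j hj => by
        rw [hM r j (Finset.mem_range.1 hj), Finset.sum_mul]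
        exact Finset.sum_congr rfl fun i' _ => by ring
      rw [Finset.sum_congr rfl e, Finset.sum_comm, ← Finset.sum_sub_distrib]
      refine Finset.sum_congr rfl fun i' _ => ?_
      simp only [if_pos hik, mul_sub, Finset.mul_sum]
    · simp [hik]

include hG hf

/-- **Self-centralizing twisted torus.** -/
theorem exists_selfCentralizing_cyclic (hn : NegTri D) (Bm : ℕ → ℕ → ℤ)
    (hBm : ∀ i < D.rank, ∀ k < D.rank,
      ∑ j ∈ Finset.range D.rank, D.cartan i (D.simple j) * Bm j k = if i = k then 1 else 0)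
    (hBm' : ∀ j < D.rank, ∀ k < D.rank,
      ∑ i ∈ Finset.range D.rank, Bm j i * D.cartan i (D.simple k) = if j = k then 1 else 0)
    (hT : T.Checked D) {F : Type*} [Field F] [Fintype F] {q : ℕ} (hq : Fintype.card F = q) {m : ℕ}
    (hm : (m : ℤ) = T.size D q) (hreg : ∀ s < D.nroots, ¬ T.size D q ∣ T.expo D q s)
    (hrig : T.Rigid D q (T.size D q)) :
    ∃ H : Subgroup ↥(D.group F), IsCyclic ↥H ∧ Nat.card ↥H = m ∧
      Subgroup.centralizer (H : Set ↥(D.group F)) = H := by
  classical
  obtain ⟨p, hp⟩ := CharP.exists F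
  obtain ⟨⟨a, ha⟩, hpp, hc⟩ := FiniteField.card F p
  simp only [PNat.mk_coe] at hc
  have : Fact p.Prime := ⟨hpp⟩
  let k := AlgebraicClosure F
  let ι := algebraMap F k
  have hkp : CharP k p := charP_of_injective_ringHom ι.injective p
  have : ExpChar k p := .prime hpp
  let σ : k ≃+* k := iterateFrobeniusEquiv k p a
  have hσ : ∀ t, σ t = t ^ p ^ a := fun t => iterateFrobeniusEquiv_def ..
  have hqa : p ^ a = q := hc.symm.trans hq
  obtain ⟨l, hl0⟩ : ∃ l, D.rank = l + 1 := ⟨D.rank - 1, by have := hT.rank_pos; omega⟩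
  have hmk : (m : k) ≠ 0 := by
    intro h0
    rw [CharP.cast_eq_zero_iff k p] at h0
    have h1 : (p : ℤ) ∣ T.size D q := hm ▸ Int.natCast_dvd_natCast.2 h0
    have hpq : (p : ℤ) ∣ (q : ℤ) := Int.natCast_dvd_natCast.2 (hqa ▸ dvd_pow_self p ha.ne')
    have h2 : (p : ℤ) ∣ 1 := by
      rw [TorusData.size, list_range_sum_eq, hl0, Finset.sum_range_succ', hT.g_zero, pow_zero, mul_one,
        ← add_assoc] at h1
      refine (dvd_add_right ?_).1 h1
      refine dvd_add (dvd_pow hpq (Nat.succ_ne_zero l)) (Finset.dvd_sum fun j _ => ?_)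
      exact dvd_mul_of_dvd_right (dvd_pow hpq (Nat.succ_ne_zero j)) _
    exact hpp.ne_one (by exact_mod_cast Int.eq_one_of_dvd_one (Int.natCast_nonneg p) h2)
  have : NeZero (m : k) := ⟨hmk⟩
  have : NeZero m := ⟨fun h => hmk (by rw [h, Nat.cast_zero])⟩
  obtain ⟨ζ, hζ⟩ := HasEnoughRootsOfUnity.exists_primitiveRoot k m
  have hζ0 : ζ ≠ 0 := hζ.ne_zero (NeZero.ne m)
  -- the torus element
  let u : Fin D.rank → kˣ := fun j => Units.mk0 ζ hζ0 ^ T.expo D q (D.simple j.val)
  obtain ⟨t, htT, htsimple⟩ := exists_chi_simple hG Bm hBm' u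
  have e2 : ∀ {G₀ : Type _} [CommGroup G₀] (g : G₀) (f : ℕ → ℤ) (n : ℕ),
      ∏ j ∈ Finset.range n, g ^ f j = g ^ ∑ j ∈ Finset.range n, f j := by
    intro G₀ _ g f n
    induction n with
    | zero => simp
    | succ n ih => rw [Finset.prod_range_succ, Finset.sum_range_succ, ih, _root_.zpow_add]
  have hcartan : ∀ i < D.rank, ∀ s < D.nroots,
      D.cartan i s = ∑ j ∈ Finset.range D.rank, T.cd s j * D.cartan i (D.simple j) := fun i hi s hs => by
    rw [hT.cartan_eq i hi s hs, list_range_sum_eq]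
  have hsumE : ∀ s < D.nroots,
      ∑ i ∈ Finset.range D.rank, T.expo D q (D.simple i) * T.cd s i = T.expo D q s := by
    intro s hs
    simp only [TorusData.expo, list_range_sum_eq, Finset.sum_mul]
    rw [Finset.sum_comm]
    refine Finset.sum_congr rfl fun j hj => ?_
    rw [hT.orb_coord s hs j (Finset.mem_range.1 hj), list_range_sum_eq, Finset.sum_mul]
    exact Finset.sum_congr rfl fun i _ => by ring
  have htchi : ∀ r : Fin D.nroots, chi t r = ((Units.mk0 ζ hζ0 ^ T.expo D q r.val : kˣ) : k) := by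
    intro r
    rw [chi_eq_zprod hG T.cd hcartan htT r, Finset.prod_congr rfl fun j _ => by rw [htsimple j]]
    simp only [u, ← Units.val_zpow_eq_zpow_val, ← Units.coe_prod, ← _root_.zpow_mul]
    rw [Fin.prod_univ_eq_prod_range (fun i => Units.mk0 ζ hζ0 ^ (T.expo D q (D.simple i) * T.cd r.val i)),
      e2, hsumE r.val r.2]
  have hζdvd : ∀ z : ℤ, (Units.mk0 ζ hζ0 ^ z = 1) ↔ (m : ℤ) ∣ z := fun z => by
    have : IsPrimitiveRoot (Units.mk0 ζ hζ0) m := IsPrimitiveRoot.coe_units_iff.1 (by simpa using hζ)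
    exact this.zpow_eq_one_iff_dvd z
  have htreg : ∀ r, chi t r ≠ 1 := fun r => by
    rw [htchi, Ne, Units.val_eq_one, hζdvd, hm]
    exact hreg r.val r.2
  -- the Weyl element
  obtain ⟨l₀, hl₀⟩ := wperm_eq (F := k) hG hT
  set n := (data hG k).nw l₀ with hndef
  have hw : ∀ s < D.nroots, T.wperm D s < D.nroots := fun s hs => by
    rw [← hl₀ ⟨s, hs⟩]; exact ((data hG k).wl l₀ ⟨s, hs⟩).2
  have hb : ∀ i, T.base D i < D.nroots := by
    intro i
    induction i with
    | zero => exact hT.alpha_lt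
    | succ i ih => exact hw _ ih
  have hfixn : entryMap D (σ : k →+* k) n = n := by
    rw [hndef]
    have key : ∀ L : List (Fin D.rank), entryMap D (σ : k →+* k) ((data hG k).nw L) = (data hG k).nw L := by
      intro L
      induction L with
      | nil => simp
      | cons j L' ih' =>
        rw [RootBN.Data.nw_cons, map_mul, ih']
        congr 1
        show entryMap D (σ : k →+* k) (ne' hG (D.simple j.val) 1) = ne' hG (D.simple j.val) 1
        rw [entryMap_ne' hG, map_one]
    exact key l₀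
  have hσT : ∀ x ∈ D.diagonalSubgroup k, entryMap D (σ : k →+* k) x ∈ D.diagonalSubgroup k := by
    intro x hx
    obtain ⟨τ, rfl⟩ := exists_torElt hG hx
    rw [torElt, map_list_prod, List.map_map]
    refine list_prod_mem fun y hy => ?_
    obtain ⟨i, hi, rfl⟩ := List.mem_map.1 hy
    show entryMap D (σ : k →+* k) (he hG (D.simple i) (τ i : k)) ∈ _
    rw [entryMap_he hG]
    exact he_mem_H hG (hG.simple_lt (List.mem_range.1 hi)) ((map_ne_zero σ).2 (τ i).ne_zero)
  have hσchi : ∀ (x : GL D.Idx k) (r : Fin D.nroots), chi (entryMap D (σ : k →+* k) x) r = chi x r ^ q :=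
    fun x r => by rw [← hqa]; exact hσ _
  have htfix : n * entryMap D (σ : k →+* k) t * n⁻¹ = t := by
    refine diagonal_ext hG (RootBN.Data.nw_H (axioms hG hf) l₀ (hσT t htT)) htT fun r' => ?_
    obtain ⟨r, rfl⟩ := ((data hG k).wl l₀).surjective r'
    rw [hndef, chi_nw_conj hG hf l₀ (hσT t htT) r, hσchi, htchi, htchi, hl₀ r, ← Units.val_pow_eq_pow_val]
    refine congrArg Units.val ?_
    rw [← zpow_natCast, ← _root_.zpow_mul, ← mul_inv_eq_one, ← zpow_neg, ← _root_.zpow_add, hζdvd,
      expo_wperm hT q r.2, hm]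
    exact ⟨T.ac r.val (D.rank - 1), by ring⟩
  -- descend
  obtain ⟨g, hg, hgn⟩ := exists_lang (a := a) hG (σ : k →+* k) ha.ne' hσ (g := n) (by
    rw [hndef, ← data_grp hG]
    refine list_prod_mem fun y hy => ?_
    obtain ⟨i, -, rfl⟩ := List.mem_map.1 hy
    exact (axioms hG hf).nn_mem i)
  have hTG : D.diagonalSubgroup k ≤ D.group k := by
    rw [← data_grp hG]; exact (axioms hG hf).H_le
  rw [inv_mul_eq_iff_eq_mul] at hgn
  have hσq : ∀ x, σ x = x ^ Fintype.card F := fun x => by rw [hσ, hc]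
  have hmem := mem_image_iff_fixed hG hf ι σ hσq 1 (by intro x y h; simpa using h) Bm
    (fun i hi j hj => by simpa using hBm i hi j hj)
  obtain ⟨x₀, hx₀, hιx₀⟩ := (hmem (g * t * g⁻¹)).2 ⟨mul_mem (mul_mem hg (hTG htT)) (inv_mem hg), by
    rw [map_mul, map_mul, map_inv, hgn]
    calc g * n * entryMap D (σ : k →+* k) t * (g * n)⁻¹
        = g * (n * entryMap D (σ : k →+* k) t * n⁻¹) * g⁻¹ := by group
      _ = _ := by rw [htfix]⟩
  let φ : ↥(D.group F) →* GL D.Idx k := (entryMap D ι).comp (D.group F).subtype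
  have hφ : Function.Injective φ := (entryMap_injective ι).comp Subtype.val_injective
  let X : ↥(D.group F) := ⟨x₀, hx₀⟩
  have hXt : φ X = MulAut.conj g t := hιx₀
  refine ⟨Subgroup.zpowers X, Subgroup.isCyclic_zpowers X, ?_, le_antisymm ?_ ?_⟩
  · rw [Nat.card_zpowers, ← orderOf_injective φ hφ, hXt,
      MulEquiv.orderOf_eq (MulAut.conj g) t, hζ.eq_orderOf]
    refine orderOf_eq_orderOf_iff.2 fun j => ?_
    constructor
    · intro h
      have h1 := congrArg (fun z => chi z (⟨T.alpha, hT.alpha_lt⟩ : Fin D.nroots)) h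
      simp only [chi_pow hG htT, chi_one, htchi] at h1
      have e := expo_base hT q (j := 0) hT.rank_pos
      rw [pow_zero, show T.base D 0 = T.alpha from rfl] at e
      rwa [e, zpow_one, Units.val_mk0] at h1
    · intro h
      refine diagonal_ext hG (pow_mem htT j) (one_mem _) fun r => ?_
      rw [chi_pow hG htT, chi_one, htchi, ← Units.val_pow_eq_pow_val, Units.val_eq_one, ← zpow_natCast,
        ← _root_.zpow_mul, mul_comm, _root_.zpow_mul, zpow_natCast]
      rw [show Units.mk0 ζ hζ0 ^ j = 1 from Units.ext (by simpa using h), one_zpow]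
  · intro y hy
    have hyX : X * y = y * X := Subgroup.mem_centralizer_iff.1 hy X (Subgroup.mem_zpowers X)
    set Y := g⁻¹ * φ y * g with hY
    have hYG : Y ∈ D.group k := mul_mem (mul_mem (inv_mem hg) (entryMap_mem_group hG ι y.2)) hg
    have hYc : t * Y = Y * t := by
      have := congrArg φ hyX
      rw [map_mul, map_mul, hXt, MulAut.conj_apply] at this
      calc t * Y = g⁻¹ * (g * t * g⁻¹ * φ y) * g := by rw [hY]; group
        _ = g⁻¹ * (φ y * (g * t * g⁻¹)) * g := by rw [this]
        _ = _ := by rw [hY]; group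
    obtain ⟨h, hh, L, hYL, hLfix⟩ := commute_regular hG hf hn htT htreg hYG hYc
    obtain ⟨M, hM⟩ := wl_linear (F := k) hG hT L
    let f : ℕ → ℕ := fun s => if hs : s < D.nroots then ((data hG k).wl L ⟨s, hs⟩).val else 0
    have hfv : ∀ r : Fin D.nroots, f r.val = ((data hG k).wl L r).val := fun r => by simp [f]
    have hflin : ∀ s < D.nroots, ∀ i < D.rank,
        T.cd (f s) i = ((List.range D.rank).map fun j => T.ac s j * T.cd (f (T.base D j)) i).sum := by
      intro s hs i hi
      have e : ∀ j, T.ac s j * T.cd (f (T.base D j)) i =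
          ∑ i' ∈ Finset.range D.rank, T.ac s j * (T.cd (T.base D j) i' * M i' i) := fun j => by
        rw [show f (T.base D j) = _ from hfv ⟨T.base D j, hb j⟩, hM ⟨T.base D j, hb j⟩ i hi, Finset.mul_sum]
      rw [list_range_sum_eq, show f s = _ from hfv ⟨s, hs⟩, hM ⟨s, hs⟩ i hi,
        Finset.sum_congr rfl fun j _ => e j, Finset.sum_comm]
      refine Finset.sum_congr rfl fun i' hi' => ?_
      rw [hT.coord_orb s hs i' (Finset.mem_range.1 hi'), list_range_sum_eq, Finset.sum_mul]
      exact Finset.sum_congr rfl fun j _ => by ring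
    have hfB := hrig f (fun s hs => by rw [show f s = _ from hfv ⟨s, hs⟩]; exact Fin.is_lt _) hflin fun j hj => by
      have h1 := hLfix ⟨T.base D j, hb j⟩
      rw [htchi, htchi, ← hfv, Units.val_inj, ← mul_inv_eq_one, ← zpow_neg, ← _root_.zpow_add, hζdvd,
        expo_base hT q hj, hm] at h1
      simpa [sub_eq_add_neg] using h1
    have hfid : ∀ r : Fin D.nroots, (data hG k).wl L r = r := by
      intro r
      refine Fin.ext ?_
      rw [← hfv]
      have hnd := hT.coord_nodup
      rw [List.nodup_map_iff_inj_on List.nodup_range] at hnd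
      refine hnd _ (List.mem_range.2 (by rw [hfv]; exact Fin.is_lt _)) _ (List.mem_range.2 r.2)
        (List.map_congr_left fun i hi => ?_)
      rw [hflin r.val r.2 i (List.mem_range.1 hi), hT.coord_orb r.val r.2 i (List.mem_range.1 hi)]
      exact congrArg List.sum (List.map_congr_left fun j hj => by rw [hfB j (List.mem_range.1 hj)])
    have hYT : Y ∈ D.diagonalSubgroup k := by
      rw [hYL]
      exact mul_mem hh (RootBN.Data.mem_H_of_pos_preserving (axioms hG hf) (RootBN.Data.nw_mem_N L)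
        (RootBN.Data.acts_nw (axioms hG hf) L) fun r hr => by rwa [hfid r])
    have hYfix : n * entryMap D (σ : k →+* k) Y * n⁻¹ = Y := by
      have hy' : entryMap D (σ : k →+* k) (φ y) = φ y := ((hmem _).1 ⟨_, y.2, rfl⟩).2
      rw [hY, map_mul, map_mul, map_inv, hgn, hy']
      group
    set c := chi Y (⟨T.alpha, hT.alpha_lt⟩ : Fin D.nroots) with hc'
    have hc0 : c ≠ 0 := chi_ne_zero hG hYT _
    have hshift : ∀ r : Fin D.nroots, chi Y ((data hG k).wl l₀ r) = chi Y r ^ q := fun r => by
      conv_lhs => rw [← hYfix]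
      rw [hndef, chi_nw_conj hG hf l₀ (hσT Y hYT) r, hσchi]
    have hbase : ∀ j, chi Y ⟨T.base D j, hb j⟩ = c ^ q ^ j := by
      intro j
      induction j with
      | zero => rw [pow_zero, pow_one]; rfl
      | succ j ih =>
        have := hshift ⟨T.base D j, hb j⟩
        rw [ih, ← pow_mul, ← pow_succ] at this
        rw [← this]
        exact congrArg (chi Y) (Fin.ext (hl₀ ⟨T.base D j, hb j⟩).symm)
    have hYchi : ∀ r : Fin D.nroots, chi Y r = ((Units.mk0 c hc0 ^ T.expo D q r.val : kˣ) : k) := by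
      intro r
      let χu : Fin D.nroots → kˣ := fun s => Units.mk0 (chi Y s) (chi_ne_zero hG hYT s)
      have hsimple : ∀ s : Fin D.nroots, χu s =
          ∏ i ∈ Finset.range D.rank, (fun i => if hi : i < D.rank then
            χu ⟨D.simple i, hG.simple_lt hi⟩ else 1) i ^ T.cd s.val i := by
        intro s
        refine Units.ext ?_
        rw [← Fin.prod_univ_eq_prod_range, Units.coe_prod]
        show chi Y s = _
        rw [chi_eq_zprod hG T.cd hcartan hYT s]
        refine Finset.prod_congr rfl fun i _ => ?_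
        simp only [Units.val_zpow_eq_zpow_val, dif_pos i.2]
        rfl
      suffices χu r = Units.mk0 c hc0 ^ T.expo D q r.val from congrArg Units.val this
      rw [hsimple r, TorusData.expo, list_range_sum_eq, ← e2]
      have hb' : ∀ j ∈ Finset.range D.rank, Units.mk0 c hc0 ^ (T.ac r.val j * (q : ℤ) ^ j) =
          ∏ i ∈ Finset.range D.rank, (fun i => if hi : i < D.rank then
            χu ⟨D.simple i, hG.simple_lt hi⟩ else 1) i ^ (T.ac r.val j * T.cd (T.base D j) i) := by
        intro j _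
        rw [mul_comm, _root_.zpow_mul, ← Nat.cast_pow, zpow_natCast,
          show Units.mk0 c hc0 ^ q ^ j = χu ⟨T.base D j, hb j⟩ from
            Units.ext (by rw [Units.val_pow_eq_pow_val, Units.val_mk0]; exact (hbase j).symm),
          hsimple, ← Finset.prod_zpow]
        exact Finset.prod_congr rfl fun i _ => by rw [← _root_.zpow_mul, mul_comm]
      rw [Finset.prod_congr rfl hb', Finset.prod_comm]
      refine Finset.prod_congr rfl fun i hi => ?_
      rw [e2, hT.coord_orb r.val r.2 i (Finset.mem_range.1 hi), list_range_sum_eq]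
    have hcm : c ^ m = 1 := by
      have h1 := hshift ⟨T.base D l, hb l⟩
      rw [hbase, hYchi, hl₀, expo_wperm hT q (hb l), expo_base hT q (by omega), hl0, Nat.add_sub_cancel,
        hT.base_orb l (by omega) l (by omega), if_pos rfl, one_mul, ← pow_mul, ← pow_succ,
        Units.val_zpow_eq_zpow_val, Units.val_mk0, ← hm, zpow_sub₀ hc0, ← pow_succ', ← Nat.cast_pow,
        zpow_natCast, zpow_natCast, div_eq_iff (pow_ne_zero _ hc0)] at h1
      exact mul_left_cancel₀ (pow_ne_zero _ hc0) (by rw [← h1, mul_one])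
    obtain ⟨i, -, hi⟩ := hζ.eq_pow_of_pow_eq_one hcm
    refine ⟨(i : ℤ), ?_⟩
    have hti : t ^ i = Y := by
      refine diagonal_ext hG (pow_mem htT i) hYT fun r => ?_
      rw [chi_pow hG htT, htchi, hYchi, ← Units.val_pow_eq_pow_val]
      refine congrArg Units.val ?_
      rw [show Units.mk0 c hc0 = Units.mk0 ζ hζ0 ^ i from Units.ext (by simpa using hi.symm),
        ← zpow_natCast, ← zpow_natCast, ← _root_.zpow_mul, ← _root_.zpow_mul, mul_comm]
    refine hφ ?_
    show φ (X ^ (i : ℤ)) = φ y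
    rw [zpow_natCast, map_pow, hXt, ← map_pow, hti, hY, MulAut.conj_apply]
    group
  · intro y hy
    obtain ⟨i, rfl⟩ := hy
    exact Subgroup.mem_centralizer_iff.2 fun z hz => by
      obtain ⟨j, rfl⟩ := hz
      exact Commute.zpow_zpow (Commute.refl X) j i

end Cfsg.Agent.LangSteinberg
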