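import Cfsg.Agent.Lib.Chev.CheckF4
import Cfsg.Agent.Lib.Chev.BNFacts
import Cfsg.Agent.Lib.LangSteinberg.TwistedTorus

/-!
# The twisted torus of type F4: tables
-/

set_option autoImplicit false
set_option maxRecDepth 100000
set_option maxHeartbeats 4000000

namespace Cfsg.Agent.LangSteinberg

open Cfsg.Lie

/-- The tables. -/
def torusF4 : TorusData where
  word := [1, 2, 1, 0, 3, 2]
  alpha := 3
  g := [1, 0, 0, 0]
  coord := [[25926, 30022, 30278, 30294, 30310, 30566, 34662, 30295, 30311, 30567, 34663, 30583, 34679, 34935, 34951, 30312], [30568, 34664, 30584, 34680, 34936, 30600, 34696, 30856, 39048, 35208, 39304, 34968, 35224, 39320, 35240, 39336], [39592, 34953, 34969, 35225, 39321, 35241, 39337, 39593, 39609, 35242, 39338, 39594, 39610, 39626, 39882, 43978]]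
  orb := [[30872, 31097, 34697, 34953, 35209, 38809, 39034, 30856, 31112, 34712, 34937, 34968, 35193, 38793, 39049, 27015], [30615, 30840, 30871, 31096, 34696, 31127, 31352, 34727, 35177, 38552, 38777, 35208, 38808, 39033, 39064, 39289], [42889, 30855, 31111, 34711, 34936, 34967, 35192, 38792, 39048, 30870, 31095, 34695, 34951, 35207, 38807, 39032]]

/-- The inverse Cartan matrix. -/
def bmF4 (i j : ℕ) : ℤ := (([[2, 3, 4, 2], [3, 6, 8, 4], [2, 4, 6, 3], [1, 2, 3, 2]] : List (List ℤ)).getD i []).getD j 0

theorem bmF4_right : ∀ i < chevF4.rank, ∀ k < chevF4.rank,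
    ((List.range chevF4.rank).map fun j => chevF4.cartan i (chevF4.simple j) * bmF4 j k).sum =
      if i = k then 1 else 0 := by decide +kernel

theorem bmF4_left : ∀ j < chevF4.rank, ∀ k < chevF4.rank,
    ((List.range chevF4.rank).map fun i => bmF4 j i * chevF4.cartan i (chevF4.simple k)).sum =
      if j = k then 1 else 0 := by decide +kernel

theorem torusF4_checked : torusF4.Checked chevF4 where
  rank_pos := by decide +kernel
  word_lt := by decide +kernel
  alpha_lt := by decide +kernel
  g_zero := by decide +kernel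
  cartan_eq := by decide +kernel
  refl_eq := by decide +kernel
  coord_nodup := by decide +kernel
  coord_orb := by decide +kernel
  orb_coord := by decide +kernel
  base_orb := by decide +kernel
  coord_ne := by decide +kernel
  shift := by decide +kernel

theorem torusF4_bound : ∀ s < chevF4.nroots, ∀ j < chevF4.rank, (torusF4.ac s j).natAbs ≤ 2 := by
  decide +kernel

theorem torusF4_small : ∀ q < 4, 2 ≤ q →
    (∀ s < chevF4.nroots, ¬ torusF4.size chevF4 q ∣ torusF4.expo chevF4 q s) ∧
      torusF4.rigidCheck chevF4 q = true := by decide +kernel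

/-- The torus of order `size q`. -/
theorem exists_torusF4 {F : Type*} [Field F] [Fintype F] {q m : ℕ} (hq : Fintype.card F = q)
    (hq0 : 2 ≤ q) (hm : (m : ℤ) = torusF4.size chevF4 q)
    (hlarge : 4 ≤ q → (q : ℤ) ^ chevF4.rank ≤ torusF4.size chevF4 q) :
    ∃ H : Subgroup ↥(chevF4.group F), IsCyclic ↥H ∧ Nat.card ↥H = m ∧
      Subgroup.centralizer (H : Set ↥(chevF4.group F)) = H := by
  obtain ⟨h1, h2⟩ := reg_rigid Chev.F4.good torusF4_checked torusF4_bound
    (fun h => torusF4_small q (by omega) hq0) hlarge
  exact exists_selfCentralizing_cyclic Chev.F4.good Chev.BNSetup.facts_chevF4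
    Chev.BNSetup.negTri_chevF4 bmF4
    (fun i hi k hk => (TorusData.list_range_sum_eq _ _).symm.trans (bmF4_right i hi k hk))
    (fun i hi k hk => (TorusData.list_range_sum_eq _ _).symm.trans (bmF4_left i hi k hk))
    torusF4_checked hq hm h1 h2

end Cfsg.Agent.LangSteinberg
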