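import Cfsg.Agent.Lib.Chev.CheckG2
import Cfsg.Agent.Lib.Chev.BNFacts
import Cfsg.Agent.Lib.LangSteinberg.TwistedTorus

/-!
# The twisted torus of type G2: tables
-/

set_option autoImplicit false
set_option maxRecDepth 100000
set_option maxHeartbeats 4000000

namespace Cfsg.Agent.LangSteinberg

open Cfsg.Lie

/-- The tables. -/
def torusG2 : TorusData where
  word := [1, 0, 1, 0]
  alpha := 2
  g := [1, 1]
  coord := [[101, 117, 118, 119, 135, 120, 152, 137, 153, 154, 155, 171]]
  orb := [[121, 154, 137, 120, 153, 103, 169, 119, 152, 135, 118, 151]]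

/-- The inverse Cartan matrix. -/
def bmG2 (i j : ℕ) : ℤ := (([[2, 3], [1, 2]] : List (List ℤ)).getD i []).getD j 0

theorem bmG2_right : ∀ i < chevG2.rank, ∀ k < chevG2.rank,
    ((List.range chevG2.rank).map fun j => chevG2.cartan i (chevG2.simple j) * bmG2 j k).sum =
      if i = k then 1 else 0 := by decide +kernel

theorem bmG2_left : ∀ j < chevG2.rank, ∀ k < chevG2.rank,
    ((List.range chevG2.rank).map fun i => bmG2 j i * chevG2.cartan i (chevG2.simple k)).sum =
      if j = k then 1 else 0 := by decide +kernel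

theorem torusG2_checked : torusG2.Checked chevG2 where
  rank_pos := by decide +kernel
  word_lt := by decide +kernel
  alpha_lt := by decide +kernel
  g_zero := by decide +kernel
  cartan_eq := by decide +kernel
  refl_eq := by decide +kernel
  coord_nodup := by decide +kernel
  coord_orb := by decide +kernel
  orb_coord := by decide +kernel
  base_orb := by decide +kernel
  coord_ne := by decide +kernel
  shift := by decide +kernel

theorem torusG2_bound : ∀ s < chevG2.nroots, ∀ j < chevG2.rank, (torusG2.ac s j).natAbs ≤ 2 := by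
  decide +kernel

theorem torusG2_small : ∀ q < 4, 3 ≤ q →
    (∀ s < chevG2.nroots, ¬ torusG2.size chevG2 q ∣ torusG2.expo chevG2 q s) ∧
      torusG2.rigidCheck chevG2 q = true := by decide +kernel

/-- The torus of order `size q`. -/
theorem exists_torusG2 {F : Type*} [Field F] [Fintype F] {q m : ℕ} (hq : Fintype.card F = q)
    (hq0 : 3 ≤ q) (hm : (m : ℤ) = torusG2.size chevG2 q)
    (hlarge : 4 ≤ q → (q : ℤ) ^ chevG2.rank ≤ torusG2.size chevG2 q) :
    ∃ H : Subgroup ↥(chevG2.group F), IsCyclic ↥H ∧ Nat.card ↥H = m ∧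
      Subgroup.centralizer (H : Set ↥(chevG2.group F)) = H := by
  obtain ⟨h1, h2⟩ := reg_rigid Chev.G2.good torusG2_checked torusG2_bound
    (fun h => torusG2_small q (by omega) hq0) hlarge
  exact exists_selfCentralizing_cyclic Chev.G2.good Chev.BNSetup.facts_chevG2
    Chev.BNSetup.negTri_chevG2 bmG2
    (fun i hi k hk => (TorusData.list_range_sum_eq _ _).symm.trans (bmG2_right i hi k hk))
    (fun i hi k hk => (TorusData.list_range_sum_eq _ _).symm.trans (bmG2_left i hi k hk))
    torusG2_checked hq hm h1 h2

end Cfsg.Agent.LangSteinberg
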